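import Cfsg.Agent.Lib.Frobenius.CA.Local
import Cfsg.Agent.Lib.Frobenius.Kernel
import Mathlib.GroupTheory.Nilpotent
import Mathlib.GroupTheory.Perm.Cycle.Type

/-!
# A nilpotent subgroup containing the centralizers of its non-identity elements
-/

set_option autoImplicit false
set_option linter.unusedSectionVars false

open scoped commutatorElement

namespace CfsgLib.Frobenius.CN

open CfsgLib.Frobenius.CA (conjA conjA_coe conjA_bijective)

universe u

variable {G : Type u} [Group G] [Fintype G] {A : Subgroup G}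
variable (hC : ∀ a ∈ A, a ≠ 1 → Subgroup.centralizer ({a} : Set G) ≤ A)
  (hnil : Group.IsNilpotent A)
include hC hnil

theorem centralizer_center_eq {z : A} (hz : z ∈ Subgroup.center A) (hz1 : (z : G) ≠ 1) :
    Subgroup.centralizer ({(z : G)} : Set G) = A :=
  le_antisymm (hC z z.2 hz1) fun a ha => Subgroup.mem_centralizer_singleton_iff.2
    (congrArg Subtype.val (Subgroup.mem_center_iff.1 hz ⟨a, ha⟩))

/-- The trivial intersection property. -/
theorem mem_normalizer_of_conj {x a : G} (ha : a ∈ A) (ha1 : a ≠ 1) (h : x⁻¹ * a * x ∈ A) :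
    x ∈ Subgroup.normalizer (A : Set G) := by
  have := hnil
  have : Nontrivial A := ⟨⟨⟨a, ha⟩, 1, fun e => ha1 (congrArg Subtype.val e)⟩⟩
  have := (Subgroup.nontrivial_iff_ne_bot _).2 (Group.IsNilpotent.center_ne_bot (G := A))
  obtain ⟨⟨z, hz⟩, hzne⟩ := exists_ne (1 : Subgroup.center A)
  have hz1 : (z : G) ≠ 1 := fun e => hzne (Subtype.ext (Subtype.ext e))
  have hzb : (z : G) * (x⁻¹ * a * x) = x⁻¹ * a * x * (z : G) :=
    (congrArg Subtype.val (Subgroup.mem_center_iff.1 hz ⟨_, h⟩)).symm
  have hxz : x * (z : G) * x⁻¹ ∈ A := hC a ha ha1 (Subgroup.mem_centralizer_singleton_iff.2 (by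
    calc x * (z : G) * x⁻¹ * a = x * ((z : G) * (x⁻¹ * a * x)) * x⁻¹ := by group
      _ = x * (x⁻¹ * a * x * (z : G)) * x⁻¹ := by rw [hzb]
      _ = a * (x * (z : G) * x⁻¹) := by group))
  have hsub : ∀ b : A, x * (b : G) * x⁻¹ ∈ A := by
    intro b
    refine hC _ hxz (fun e => hz1 (conj_eq_one_iff.1 e)) (Subgroup.mem_centralizer_singleton_iff.2 ?_)
    have e : (b : G) * (z : G) = (z : G) * b := congrArg Subtype.val (Subgroup.mem_center_iff.1 hz b)
    calc x * (b : G) * x⁻¹ * (x * (z : G) * x⁻¹) = x * ((b : G) * (z : G)) * x⁻¹ := by group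
      _ = x * ((z : G) * b) * x⁻¹ := by rw [e]
      _ = x * (z : G) * x⁻¹ * (x * b * x⁻¹) := by group
  have hsurj : Function.Surjective fun b : A => (⟨x * b * x⁻¹, hsub b⟩ : A) :=
    Finite.surjective_of_injective fun b c e => Subtype.ext (by
      simpa using congrArg Subtype.val e)
  refine Subgroup.mem_normalizer_iff.2 fun b => ⟨fun hb => hsub ⟨b, hb⟩, fun hb => ?_⟩
  obtain ⟨c, hc⟩ := hsurj ⟨_, hb⟩
  have : (c : G) = b := by simpa using congrArg Subtype.val hc
  exact this ▸ c.2

/-- `A` is a Hall subgroup. -/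
theorem exists_sylow_le {p : ℕ} [Fact p.Prime] (hd : p ∣ Nat.card A) :
    ∃ Q : Sylow p G, (Q : Subgroup G) ≤ A ∧ ∃ a : G, a ∈ Q ∧ a ≠ 1 := by
  obtain ⟨a, ha⟩ := exists_prime_orderOf_dvd_card' p hd
  have hP : IsPGroup p (Subgroup.zpowers (a : G)) := by
    refine IsPGroup.of_card (n := 1) ?_
    rw [Nat.card_zpowers, pow_one, Subgroup.orderOf_coe, ha]
  obtain ⟨Q, hQ⟩ := hP.exists_le_sylow
  have ha1 : (a : G) ≠ 1 := by
    intro he
    rw [← Subgroup.orderOf_coe, he, orderOf_one] at ha
    exact (Fact.out : p.Prime).ne_one ha.symm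
  have haQ : (a : G) ∈ (Q : Subgroup G) := hQ (Subgroup.mem_zpowers _)
  have : Nontrivial (Q : Subgroup G) :=
    ⟨⟨⟨a, haQ⟩, 1, fun he => ha1 (congrArg Subtype.val he)⟩⟩
  have := Q.2.center_nontrivial
  obtain ⟨z, hz⟩ := exists_ne (1 : Subgroup.center (Q : Subgroup G))
  have hz1 : ((z : (Q : Subgroup G)) : G) ≠ 1 := fun he => hz (Subtype.ext (Subtype.ext he))
  have hcomm : ∀ q : (Q : Subgroup G),
      (q : G) * (z : (Q : Subgroup G)) = (z : (Q : Subgroup G)) * (q : G) :=
    fun q => congrArg Subtype.val (Subgroup.mem_center_iff.1 z.2 q)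
  have hzA : ((z : (Q : Subgroup G)) : G) ∈ A :=
    hC a a.2 ha1 (Subgroup.mem_centralizer_singleton_iff.2 (hcomm ⟨a, haQ⟩).symm)
  exact ⟨Q, fun q hq => hC _ hzA hz1 (Subgroup.mem_centralizer_singleton_iff.2 (hcomm ⟨q, hq⟩)),
    a, haQ, ha1⟩

theorem coprime_card_index : (Nat.card A).Coprime A.index := by
  refine Nat.coprime_of_dvd fun p hp hdA hdi => ?_
  have := Fact.mk hp
  obtain ⟨Q, hQ, -⟩ := exists_sylow_le hC hnil hdA
  exact Q.not_dvd_index (hdi.trans (Subgroup.index_dvd_of_le hQ))

/-- The action of `N(A)/A` on `A/A'` is fixed-point-free. -/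
theorem mem_of_conjA_mem (n : Subgroup.normalizer (A : Set G)) (a : A)
    (ha : a ∉ commutator A) (h : conjA n a * a⁻¹ ∈ commutator A) : (n : G) ∈ A := by
  classical
  by_contra hn
  set A' := A.subgroupOf (Subgroup.normalizer (A : Set G)) with hA'
  have hA'n : A'.Normal := Subgroup.normal_in_normalizer
  have hi1 : orderOf (n : Subgroup.normalizer (A : Set G) ⧸ A') ≠ 1 := by
    rw [Ne, orderOf_eq_one_iff, QuotientGroup.eq_one_iff]
    exact hn
  obtain ⟨r, hr, hrd⟩ := Nat.exists_prime_and_dvd hi1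
  have := Fact.mk hr
  have hrA : ¬ r ∣ Nat.card A := by
    intro hd
    have h1 : r ∣ A'.index := hrd.trans (by rw [Subgroup.index_eq_card]; exact orderOf_dvd_natCard _)
    have h2 : r ∣ A.index := h1.trans (Subgroup.relIndex_dvd_index_of_le Subgroup.le_normalizer)
    exact hr.ne_one (Nat.eq_one_of_dvd_coprimes (coprime_card_index hC hnil) hd h2)
  -- an `r`-element power of `n` outside `A`
  set o := orderOf n with ho
  obtain ⟨k, b, hb, hkb⟩ := Nat.exists_eq_pow_mul_and_not_dvd (orderOf_pos n).ne' r hr.ne_one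
  set n₀ := n ^ b with hn₀
  have hn₀A : (n₀ : G) ∉ A := by
    intro hm
    refine hb (hrd.trans (orderOf_dvd_of_pow_eq_one ?_))
    rw [← QuotientGroup.mk_pow, QuotientGroup.eq_one_iff]
    exact hm
  have hn₀o : n₀ ^ (r ^ k) = 1 := by
    rw [hn₀, ← pow_mul, mul_comm, ← hkb, pow_orderOf_eq_one]
  -- every power of `n` fixes the coset
  have hchar : ∀ (m : Subgroup.normalizer (A : Set G)) (t : A), t ∈ commutator A →
      conjA m t ∈ commutator A := by
    intro m t ht
    have h1 : (commutator A).map (conjA m) ≤ commutator A := by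
      rw [commutator_def, Subgroup.map_commutator]
      exact Subgroup.commutator_mono le_top le_top
    exact h1 ⟨t, ht, rfl⟩
  have hmul : ∀ (m m' : Subgroup.normalizer (A : Set G)) (c : A),
      conjA (m * m') c = conjA m' (conjA m c) := fun m m' c => by
    apply Subtype.ext
    simp [conjA_coe, mul_assoc]
  have hone : ∀ c : A, conjA (1 : Subgroup.normalizer (A : Set G)) c = c := fun c => by
    apply Subtype.ext
    simp [conjA_coe]
  have hcn : (commutator A).Normal := inferInstance
  have hfix : ∀ (j : ℕ) (c : A), c * a⁻¹ ∈ commutator A →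
      conjA (n ^ j) c * a⁻¹ ∈ commutator A := by
    intro j
    induction j with
    | zero => intro c hc; rwa [pow_zero, hone]
    | succ j ih =>
      intro c hc
      rw [pow_succ, hmul]
      have e : conjA n (conjA (n ^ j) c) * a⁻¹
          = conjA n (conjA (n ^ j) c * a⁻¹) * (conjA n a * a⁻¹) := by
        rw [map_mul, map_inv]; group
      rw [e]
      exact mul_mem (hchar n _ (ih c hc)) h
  let X := {c : A // c * a⁻¹ ∈ commutator A}
  let σ : Equiv.Perm X :=
    Equiv.ofBijective (fun c => ⟨conjA n₀ c.1, hfix b c.1 c.2⟩)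
      ((Finite.injective_iff_bijective).1 fun c d e =>
        Subtype.ext ((conjA_bijective n₀).1 (congrArg Subtype.val e)))
  have hσpow : ∀ (j : ℕ) (c : X), ((σ ^ j) c).1 = conjA (n₀ ^ j) c.1 := by
    intro j
    induction j with
    | zero => intro c; rw [pow_zero, pow_zero, hone]; rfl
    | succ j ih =>
      intro c
      rw [pow_succ', pow_succ, Equiv.Perm.mul_apply, hmul, ← ih]
      rfl
  have hσ : σ ^ (r ^ k) = 1 := by
    refine Equiv.ext fun c => Subtype.ext ?_
    rw [hσpow, hn₀o, hone]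
    rfl
  have : Fintype X := Fintype.ofFinite _
  have hX : Fintype.card X = Nat.card (commutator A) := by
    rw [← Nat.card_eq_fintype_card]
    exact Nat.card_congr ((Equiv.mulRight a⁻¹).subtypeEquiv fun c => Iff.rfl)
  obtain ⟨c, hc⟩ := Equiv.Perm.exists_fixed_point_of_prime (σ := σ)
    (fun hd => hrA ((hX ▸ hd).trans (commutator A).card_subgroup_dvd_card)) hσ
  have hc' : (n₀ : G)⁻¹ * (c.1 : G) * n₀ = (c.1 : G) :=
    congrArg (fun t : X => ((t.1 : A) : G)) hc
  have hc1 : (c.1 : G) ≠ 1 := by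
    intro e
    have h2 := c.2
    rw [show c.1 = 1 from Subtype.ext e, one_mul] at h2
    exact ha (by simpa using (commutator A).inv_mem h2)
  refine hn₀A (hC _ c.1.2 hc1 (Subgroup.mem_centralizer_singleton_iff.2 ?_))
  calc (n₀ : G) * (c.1 : G) = (n₀ : G) * ((n₀ : G)⁻¹ * (c.1 : G) * n₀) := by rw [hc']
    _ = (c.1 : G) * n₀ := by group

theorem commutator_ne_top (hA : A ≠ ⊥) : commutator A ≠ ⊤ := by
  have := hnil
  have := (Subgroup.nontrivial_iff_ne_bot A).2 hA
  exact (Group.IsSolvable.commutator_lt_top_of_nontrivial A).ne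

/-- A nilpotent group with prime abelianisation is abelian. -/
theorem commutator_eq_bot_of_prime (hp : (commutator A).index.Prime) : commutator A = ⊥ := by
  classical
  have := hnil
  have hne : commutator A ≠ ⊤ := fun e => hp.ne_one (by rw [e, Subgroup.index_top])
  obtain ⟨x, -, hx⟩ := SetLike.exists_of_lt (lt_top_iff_ne_top.2 hne)
  have hK : Subgroup.zpowers x = ⊤ := by
    by_contra hne'
    obtain ⟨K, hK, hxK⟩ := (eq_top_or_exists_le_coatom (Subgroup.zpowers x)).resolve_left hne'
    have hKn : K.Normal :=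
      Subgroup.NormalizerCondition.normal_of_coatom K (Group.normalizerCondition_of_isNilpotent (G := A)) hK
    have hle : commutator A ≤ K := by
      rw [commutator_def, Subgroup.commutator_le]
      intro u _ v _
      have hcomm : ∀ y z : A ⧸ K, y * z = z * y := by
        intro y z
        by_cases hy : y = 1
        · simp [hy]
        have htop : (Subgroup.zpowers y).comap (QuotientGroup.mk' K) = ⊤ := by
          refine hK.2 _ (lt_of_le_of_ne (fun k hk => ?_) ?_)
          · rw [Subgroup.mem_comap, show QuotientGroup.mk' K k = 1 from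
              (QuotientGroup.eq_one_iff k).2 hk]
            exact one_mem _
          · intro e
            obtain ⟨u, rfl⟩ := QuotientGroup.mk'_surjective K y
            refine hy ((QuotientGroup.eq_one_iff u).2 ?_)
            rw [e]
            exact Subgroup.mem_zpowers _
        obtain ⟨v, rfl⟩ := QuotientGroup.mk'_surjective K z
        have hv : v ∈ (Subgroup.zpowers y).comap (QuotientGroup.mk' K) := htop ▸ Subgroup.mem_top v
        obtain ⟨i, hi⟩ := Subgroup.mem_comap.1 hv
        rw [← hi]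
        exact (Commute.refl y).zpow_right i
      refine (QuotientGroup.eq_one_iff _).1 ?_
      show QuotientGroup.mk' K ⁅u, v⁆ = 1
      rw [map_commutatorElement]
      exact commutatorElement_eq_one_iff_mul_comm.2 (hcomm _ _)
    have hne2 : (commutator A).index ≠ K.index := fun e => by
      refine hx ?_
      have h1 : K ≤ commutator A := Subgroup.relIndex_eq_one.1 (Nat.eq_of_mul_eq_mul_right
        (Nat.pos_of_ne_zero K.index_ne_zero_of_finite)
        (by rw [Subgroup.relIndex_mul_index hle, one_mul, e]))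
      exact h1 (hxK (Subgroup.mem_zpowers x))
    rcases hp.eq_one_or_self_of_dvd _ (Subgroup.index_dvd_of_le hle) with h | h
    · exact hK.1 (Subgroup.index_eq_one.1 h)
    · exact hne2 h.symm
  rw [commutator_def, Subgroup.commutator_eq_bot_iff_le_centralizer]
  intro u _ v _
  obtain ⟨i, rfl⟩ := (hK ▸ Subgroup.mem_top u : u ∈ Subgroup.zpowers x)
  obtain ⟨j, rfl⟩ := (hK ▸ Subgroup.mem_top v : v ∈ Subgroup.zpowers x)
  exact ((Commute.refl x).zpow_zpow i j).symm.eq

/-- In a simple group `A` is properly contained in its normalizer. -/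
theorem normalizer_ne [IsSimpleGroup G] (hA : A ≠ ⊥) (hA' : A ≠ ⊤) :
    Subgroup.normalizer (A : Set G) ≠ A := by
  intro hN
  have hF : Cfsg.IsFrobeniusComplement A := by
    refine ⟨hA, hA', fun g hg => (Subgroup.eq_bot_iff_forall _).2 fun y hy => ?_⟩
    by_contra hy1
    obtain ⟨hy2, hy3⟩ := Subgroup.mem_inf.1 hy
    rw [CfsgLib.Frobenius.mem_conj_smul] at hy3
    exact hg (hN ▸ mem_normalizer_of_conj hC hnil hy2 hy1 hy3)
  obtain ⟨K, -, hKn, hK⟩ := CfsgLib.Frobenius.exists_kernel hF
  rcases Subgroup.Normal.eq_bot_or_eq_top hKn with e | e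
  · refine hA' ?_
    have := hK.sup_eq_top
    rwa [e, bot_sup_eq] at this
  · have := hK.disjoint
    rw [e, top_disjoint] at this
    exact hA this

end CfsgLib.Frobenius.CN
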