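import Cfsg.Agent.Lib.Frobenius.CN.Linear
import Cfsg.Agent.Lib.Frobenius.Exceptional
import Mathlib.Algebra.Ring.Parity

/-!
# The exceptional family attached to the linear characters of a nilpotent subgroup
-/

set_option autoImplicit false

open scoped ComplexConjugate

namespace CfsgLib.Frobenius.CN

open Cfsg CfsgLib.CharTheory
open CfsgLib.Frobenius.CA (lf lf_inner conjA conjA_coe conjA_bijective twist twist_mul twist_ne_one
  NT ntAction ntSetoid cls cls_out cls_eq R nIndex card_normalizer cardA_ne_zero
  inner_twist)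

universe u

variable {G : Type u} [Group G] [Fintype G]

theorem nIndex_pos (A : Subgroup G) : 0 < nIndex A :=
  Nat.pos_of_ne_zero Subgroup.index_ne_zero_of_finite

/-- The exceptional family of a nilpotent subgroup `A` attached to its linear characters. -/
structure Family (A : Subgroup G) [Fintype A] [Fintype (commutator A)] : Type u where
  s : ℕ
  s_pos : 0 < s
  s_even : Even s
  s_mul : s * nIndex A + 1 = aindex A
  θ : Fin s → G → ℂ
  M : Fin s → A → ℂ
  ε : ℤ
  e : ℤ
  ε_eq : ε = 1 ∨ ε = -1
  θ_irr : ∀ i, IsIrrCharacter G (θ i)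
  θ_inj : Function.Injective θ
  θ_ne_one : ∀ i, θ i ≠ fun _ => 1
  θ_eq_off : ∀ i j (g : G), (∀ h : G, h⁻¹ * g * h ∈ A → g = 1) → θ i g = θ j g
  const : ∀ χ : G → ℂ, IsIrrCharacter G χ → (∀ i, χ ≠ θ i) →
    ∃ c : ℤ, ∀ a : A, a ∉ commutator A → avg (fun b : A => χ b) a = (c : ℂ)
  θ_val : ∀ i, ∀ a : A, a ∉ commutator A →
    avg (fun b : A => θ i b) a = (ε : ℂ) * M i a + (e : ℂ)
  sum_M : ∀ a : A, a ∉ commutator A → ∑ i, M i a = -1
  sum_norm_M : ∀ a : A, a ∉ commutator A →
    ∑ i, M i a * conj (M i a) = (aindex A : ℂ) - (nIndex A : ℂ)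
  total_M : ∀ i, ∑ a ∈ outer A, M i a = -((dcard A : ℂ) * (nIndex A : ℂ))
  total_norm_M : ∀ i, ∑ a ∈ outer A, M i a * conj (M i a)
    = (Nat.card A : ℂ) * nIndex A - (dcard A : ℂ) * (nIndex A : ℂ) ^ 2

theorem nonempty_family (A : Subgroup G) [Fintype A] [Fintype (commutator A)]
    (hC : ∀ a ∈ A, a ≠ 1 → Subgroup.centralizer ({a} : Set G) ≤ A) (hnil : Group.IsNilpotent A)
    (hA : A ≠ ⊥) (hodd : Odd (Nat.card G)) : Nonempty (Family A) := by
  classical
  have := finite_dual (A := A)
  have := Fintype.ofFinite (A →* ℂˣ)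
  have : Fintype (Subgroup.normalizer (A : Set G)) := Fintype.ofFinite _
  let J := Quotient (ntSetoid A)
  have : Finite J := Quotient.finite _
  have : Fintype J := Fintype.ofFinite _
  have hm := nIndex_pos A
  have hw1 : 1 < aindex A :=
    Nat.one_lt_iff_ne_zero_and_ne_one.2 ⟨(aindex_pos A).ne',
      fun e => commutator_ne_top hC hnil hA (Subgroup.index_eq_one.1 e)⟩
  -- counting
  have hNT : Fintype.card (NT A) + 1 = aindex A := by
    rw [← card_dual (A := A), ← Nat.card_eq_fintype_card, ← Finite.card_option]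
    exact Nat.card_congr (Equiv.optionSubtypeNe (1 : A →* ℂˣ))
  have hsm : Fintype.card J * nIndex A + 1 = aindex A := by
    have h := orbit_sum hC hnil (fun _ => (1 : ℂ)) (fun _ _ _ => rfl)
    simp only [Finset.sum_const, Finset.card_univ, nsmul_eq_mul, mul_one] at h
    have h' : Fintype.card (NT A) = nIndex A * Fintype.card J := by exact_mod_cast h
    rw [← hNT, h', mul_comm]
  have hJpos : 0 < Fintype.card J := by
    by_contra h0
    rw [Nat.eq_zero_of_not_pos h0] at hsm
    omega
  have hJeven : Even (Fintype.card J) := by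
    have hwo : Odd (aindex A) := hodd.of_dvd_nat
      (((commutator A).index_dvd_card).trans A.card_subgroup_dvd_card)
    have hmo : Odd (nIndex A) := hodd.of_dvd_nat
      ((Dvd.intro_left (Nat.card A) (card_normalizer A).symm).trans
        (Subgroup.card_subgroup_dvd_card _))
    rw [← hsm, Nat.odd_add_one, Nat.not_odd_iff_even, Nat.even_mul] at hwo
    exact hwo.resolve_right (Nat.not_even_iff_odd.2 hmo)
  have : Nonempty J := Fintype.card_pos_iff.1 hJpos
  obtain ⟨j₀⟩ := ‹Nonempty J›
  let lam : J → (A →* ℂˣ) := fun j => j.out.1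
  let φ : J → (A → ℂ) := fun j => lf (lam j)
  let I : J → (G → ℂ) := fun j => indFun A (φ j)
  have hφ : ∀ j, IsIrrCharacter A (φ j) := fun j => isIrrCharacter_linear (lam j)
  have hres : ∀ i j : J, (fun a : A => (I i - I j) a) = R (lam i) - R (lam j) := by
    intro i j
    funext a
    by_cases ha : a = 1
    · subst ha
      simp [I, φ, indFun_one, R_one hC hnil, lf]
    · simp [I, φ, indFun_eq_R hC hnil _ a ha]
  have hgram : ∀ i j : J, classInner (indFun A (φ i - φ j₀)) (indFun A (φ j - φ j₀))
      = (if i = j then 1 else 0) - (if i = j₀ then 1 else 0) - (if j₀ = j then 1 else 0) + 1 := by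
    intro i j
    rw [classInner_indFun A _ _ (indFun_isClassFunction A _), indFun_sub]
    rw [hres j j₀, classInner_sub_left, classInner_sub_right, classInner_sub_right]
    simp only [φ, lam, lf_inner_R hC hnil, cls_out, if_pos]
    ring
  obtain ⟨εc, hεc, θJ, hθirr, hθinj, hθeq⟩ := exists_irr_family j₀
    (fun j => indFun A (φ j - φ j₀)) (by simp [indFun_zero])
    (fun j => isGeneralizedCharacter_indFun A _ ⟨_, _, IsIrrCharacter.isCharacter (hφ j),
      IsIrrCharacter.isCharacter (hφ j₀), rfl⟩)
    (fun j => by simp [indFun_one, φ, lf])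
    (fun i hi => by rw [hgram, if_pos rfl, if_neg hi, if_neg (Ne.symm hi)]; norm_num)
    (fun i j hi hj hij => by
      rw [hgram, if_neg hij, if_neg hi, if_neg (Ne.symm hj)]; norm_num)
  obtain ⟨ε, hε, rfl⟩ : ∃ ε : ℤ, (ε = 1 ∨ ε = -1) ∧ εc = (ε : ℂ) := by
    rcases hεc with rfl | rfl
    · exact ⟨1, Or.inl rfl, by simp⟩
    · exact ⟨-1, Or.inr rfl, by simp⟩
  have hεε : (ε : ℂ) * ε = 1 := by rcases hε with rfl | rfl <;> simp
  have hconjε : conj (ε : ℂ) = ε := by simp
  have hdiff : ∀ i j : J, I i - I j = (ε : ℂ) • (θJ i - θJ j) := by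
    intro i j
    have h1 := hθeq i
    have h2 := hθeq j
    simp only [indFun_sub] at h1 h2
    rw [show θJ i - θJ j = (θJ i - θJ j₀) - (θJ j - θJ j₀) by abel, smul_sub, ← h1, ← h2]
    simp only [I]; abel
  have hdiff' : ∀ (i j : J) (g : G), θJ i g - θJ j g = (ε : ℂ) * (I i g - I j g) := by
    intro i j g
    have h := congrFun (hdiff i j) g
    simp only [Pi.sub_apply, Pi.smul_apply, smul_eq_mul] at h
    rw [h, ← mul_assoc, hεε, one_mul]
  -- inner products with the linear characters of `A`
  have hrec : ∀ (χ : G → ℂ), IsClassFunction G χ → ∀ i j : J,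
      classInner (fun a : A => χ a) (φ i) - classInner (fun a : A => χ a) (φ j)
        = (ε : ℂ) * (classInner χ (θJ i) - classInner χ (θJ j)) := by
    intro χ hχ i j
    rw [← classInner_indFun_right A (φ i) χ hχ, ← classInner_indFun_right A (φ j) χ hχ,
      ← classInner_sub_right, show indFun A (φ i) - indFun A (φ j) = I i - I j from rfl, hdiff,
      classInner_smul_right, classInner_sub_right, hconjε]
  have hall : ∀ (χ : G → ℂ), IsClassFunction G χ → ∀ l : NT A,
      classInner (fun a : A => χ a) (lf l.1) = classInner (fun a : A => χ a) (φ (cls l)) := by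
    intro χ hχ l
    obtain ⟨n, hn⟩ := cls_eq.1 (cls_out (cls l)).symm
    rw [← hn]
    exact inner_twist hχ n _
  have hgenres : ∀ {χ : G → ℂ}, IsIrrCharacter G χ →
      IsGeneralizedCharacter A (fun a : A => χ a) := by
    rintro χ ⟨n, ρ, -, rfl⟩
    exact IsCharacter.isGeneralizedCharacter ⟨n, ρ.comp A.subtype, rfl⟩
  have hint : ∀ {χ : G → ℂ}, IsIrrCharacter G χ → ∀ l : A →* ℂˣ,
      ∃ z : ℤ, classInner (fun a : A => χ a) (lf l) = z := fun hχ l =>
    exists_classInner_eq_int (hgenres hχ)
      (IsIrrCharacter.isGeneralizedCharacter (isIrrCharacter_linear l))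
  have hconst : ∀ χ : G → ℂ, IsIrrCharacter G χ → (∀ i, χ ≠ θJ i) →
      ∃ c : ℤ, ∀ a : A, a ∉ commutator A → avg (fun b : A => χ b) a = (c : ℂ) := by
    intro χ hχ hne
    obtain ⟨d, hd⟩ := hint hχ 1
    obtain ⟨c, hc⟩ := hint hχ (lam j₀)
    refine ⟨d - c, fun a ha => ?_⟩
    refine avg_of_inner (fun a : A => χ a) d c hd (fun l hl => ?_) a ha
    have h := hrec χ (IsIrrCharacter.isClassFunction hχ) (cls ⟨l, hl⟩) j₀
    rw [classInner_eq_zero_of_ne hχ (hθirr _) (hne _),
      classInner_eq_zero_of_ne hχ (hθirr _) (hne _), sub_zero, mul_zero, sub_eq_zero] at h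
    rw [hall χ (IsIrrCharacter.isClassFunction hχ) ⟨l, hl⟩, h]
    exact hc
  have havgR : ∀ (i : J) (a : A), avg (R (lam i)) a = R (lam i) a := fun i a =>
    avg_of_invariant _ (fun b t => R_mul_commutator hC hnil _ b t) a
  -- averages of the exceptional characters
  have hval : ∀ i : J, ∃ e : ℤ, ∀ a : A, a ∉ commutator A →
      avg (fun b : A => θJ i b) a = (ε : ℂ) * R (lam i) a + (e : ℂ) := by
    intro i
    obtain ⟨d, hd⟩ := hint (hθirr i) 1
    obtain ⟨c, hc⟩ := hint (hθirr i) (lam j₀)
    let f : A → ℂ := (fun a : A => θJ i a) - (ε : ℂ) • R (lam i)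
    have hf1 : classInner f (lf 1) = (d : ℂ) := by
      rw [classInner_sub_left, classInner_smul_left, R_inner_one hC hnil i.out, mul_zero, sub_zero,
        hd]
    have hfl : ∀ l : A →* ℂˣ, l ≠ 1 → classInner f (lf l)
        = ((c - ε * (if i = j₀ then 1 else 0) : ℤ) : ℂ) := by
      intro l hl
      have hR : classInner (R (lam i)) (lf l) = if i = cls ⟨l, hl⟩ then 1 else 0 := by
        rw [classInner_conj_symm, lf_inner_R hC hnil ⟨l, hl⟩ i.out, cls_out, apply_ite conj,
          map_one, map_zero]
        exact if_congr eq_comm rfl rfl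
      have h := hrec (θJ i) (IsIrrCharacter.isClassFunction (hθirr i)) (cls ⟨l, hl⟩) j₀
      rw [classInner_irr (hθirr i) (hθirr _), classInner_irr (hθirr i) (hθirr _)] at h
      simp only [hθinj.eq_iff] at h
      rw [classInner_sub_left, classInner_smul_left, hR,
        hall (θJ i) (IsIrrCharacter.isClassFunction (hθirr i)) ⟨l, hl⟩]
      rw [show classInner (fun a : A => θJ i a) (φ j₀) = (c : ℂ) from hc] at h
      push_cast
      linear_combination h
    refine ⟨d - (c - ε * (if i = j₀ then 1 else 0)), fun a ha => ?_⟩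
    have h := avg_of_inner f d _ hf1 hfl a ha
    simp only [f, avg_sub, avg_smul, havgR] at h
    linear_combination h
  obtain ⟨e, he⟩ := hval j₀
  have hne1 : ∀ (a : A), a ∉ commutator A → ∀ t : commutator A, a * (t : A) ≠ 1 := by
    intro a ha t h
    rw [mul_eq_one_iff_eq_inv] at h
    exact ha (h ▸ (commutator A).inv_mem t.2)
  -- identities for `R`
  have hm0 : (nIndex A : ℂ) ≠ 0 := Nat.cast_ne_zero.2 hm.ne'
  have hRinv : ∀ (a : A) (l l' : NT A), cls l = cls l' → R l.1 a = R l'.1 a :=
    fun a l l' h => by rw [twist_R_eq hC hnil h]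
  have hconjA : ∀ (n : Subgroup.normalizer (A : Set G)) (t : A), t ∈ commutator A →
      conjA n t ∈ commutator A := by
    intro n t ht
    have h1 : (commutator A).map (conjA n) ≤ commutator A := by
      rw [commutator_def, Subgroup.map_commutator]
      exact Subgroup.commutator_mono le_top le_top
    exact h1 ⟨t, ht, rfl⟩
  have hconjA' : ∀ (n : Subgroup.normalizer (A : Set G)) (a : A), a ∉ commutator A →
      conjA n a ∉ commutator A := by
    intro n a ha h
    refine ha ?_
    have h' := hconjA n⁻¹ _ h
    have : conjA n⁻¹ (conjA n a) = a := by apply Subtype.ext; simp [conjA_coe, mul_assoc]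
    rwa [this] at h'
  have hsum : ∀ (a : A), a ∉ commutator A → ∑ i : J, R (lam i) a = -1 := by
    intro a ha
    have h := orbit_sum hC hnil (fun l => R l.1 a) (hRinv a)
    have hall' : ∑ l : A →* ℂˣ, R l a = 0 := by
      simp only [R, Pi.smul_apply, Finset.sum_apply, smul_eq_mul, ← Finset.mul_sum]
      rw [Finset.sum_comm, Finset.sum_eq_zero, mul_zero]
      intro n _
      exact (sum_lf (conjA n a)).trans (if_neg (hconjA' n a ha))
    rw [← Finset.add_sum_erase _ _ (Finset.mem_univ (1 : A →* ℂˣ)), R_one_left hC hnil,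
      Finset.sum_subtype _ (p := fun l : A →* ℂˣ => l ≠ 1) (fun l => by simp)
        (fun l => R l a), h] at hall'
    apply mul_left_cancel₀ hm0
    linear_combination hall'
  have hsum2 : ∀ (a : A), a ∉ commutator A →
      ∑ i : J, R (lam i) a * conj (R (lam i) a) = (aindex A : ℂ) - nIndex A := by
    intro a ha
    have h := orbit_sum hC hnil (fun l => R l.1 a * conj (R l.1 a))
      (fun l l' e => by simp only [hRinv a l l' e])
    have hall' : ∑ l : A →* ℂˣ, R l a * conj (R l a) = (aindex A : ℂ) * nIndex A := by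
      have hpair : ∀ x y : A, ∑ l : A →* ℂˣ, lf l x * conj (lf l y)
          = if x * y⁻¹ ∈ commutator A then (aindex A : ℂ) else 0 := by
        intro x y
        rw [← sum_lf]
        refine Finset.sum_congr rfl fun l _ => ?_
        rw [conj_lf]
        simp [lf]
      have hcnt : ∀ n : Subgroup.normalizer (A : Set G),
          (Finset.univ.filter fun n' => conjA n a * (conjA n' a)⁻¹ ∈ commutator A).card
            = Nat.card A := by
        intro n
        rw [← Fintype.card_subtype, ← Nat.card_eq_fintype_card]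
        have hcomm : ∀ x y : A, x * y⁻¹ ∈ commutator A ↔
            (x : A ⧸ commutator A) = (y : A ⧸ commutator A) := by
          intro x y
          rw [← QuotientGroup.eq_one_iff, QuotientGroup.mk_mul, QuotientGroup.mk_inv,
            mul_inv_eq_one]
        have key : ∀ k : Subgroup.normalizer (A : Set G),
            conjA n a * (conjA k a)⁻¹ ∈ commutator A ↔
              ((k * n⁻¹ : Subgroup.normalizer (A : Set G)) : G) ∈ A := by
          intro k
          have hkn : ∀ c : A, conjA n⁻¹ (conjA n c) = c := fun c => by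
            apply Subtype.ext; simp [conjA_coe, mul_assoc]
          have hkn' : ∀ c : A, conjA (k * n⁻¹) c = conjA n⁻¹ (conjA k c) := fun c => by
            apply Subtype.ext; simp [conjA_coe, mul_assoc]
          constructor
          · intro hk
            have h2 := (commutator A).inv_mem (hconjA n⁻¹ _ hk)
            refine mem_of_conjA_mem hC hnil _ a ha ?_
            rw [map_mul, map_inv, hkn, mul_inv_rev, inv_inv] at h2
            rwa [hkn']
          · intro hk
            have e : conjA (k * n⁻¹) a * a⁻¹ ∈ commutator A := by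
              have e1 : conjA (k * n⁻¹) a = (⟨_, hk⟩ : A)⁻¹ * a * ⟨_, hk⟩ := by
                apply Subtype.ext; simp [conjA_coe]
              rw [hcomm, e1, QuotientGroup.mk_mul, QuotientGroup.mk_mul, QuotientGroup.mk_inv]
              have hab : ∀ q r : A ⧸ commutator A, q * r = r * q := fun q r =>
                mul_comm (G := Abelianization A) q r
              rw [hab _ (a : A ⧸ commutator A)]
              exact inv_mul_cancel_right _ _
            have h2 := hconjA n _ e
            rw [map_mul, map_inv, show conjA n (conjA (k * n⁻¹) a) = conjA k a by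
              apply Subtype.ext; simp [conjA_coe, mul_assoc]] at h2
            simpa using (commutator A).inv_mem h2
        exact Nat.card_congr
          { toFun := fun k => ⟨_, (key k.1).1 k.2⟩
            invFun := fun x => ⟨⟨(x : G), Subgroup.le_normalizer x.2⟩ * n, (key _).2 (by simp)⟩
            left_inv := fun k => by apply Subtype.ext; apply Subtype.ext; simp
            right_inv := fun x => by apply Subtype.ext; simp }
      have hexp : ∀ l : A →* ℂˣ, R l a * conj (R l a) = (Nat.card A : ℂ)⁻¹ * (Nat.card A : ℂ)⁻¹ *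
          ∑ n : Subgroup.normalizer (A : Set G), ∑ n' : Subgroup.normalizer (A : Set G),
            lf l (conjA n a) * conj (lf l (conjA n' a)) := by
        intro l
        simp only [R, Pi.smul_apply, Finset.sum_apply, smul_eq_mul, map_mul, map_inv₀,
          Complex.conj_natCast, map_sum, ← Finset.mul_sum, ← Finset.sum_mul]
        rw [show ∑ n, lf (twist n l) a = ∑ n, lf l (conjA n a) from rfl,
          show ∑ n, conj (lf (twist n l) a) = ∑ n, conj (lf l (conjA n a)) from rfl]
        ring
      simp only [hexp]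
      rw [← Finset.mul_sum, Finset.sum_comm, Finset.sum_congr rfl fun n _ => Finset.sum_comm]
      simp only [hpair, Finset.sum_ite,
        Finset.sum_const_zero, add_zero, Finset.sum_const, hcnt, nsmul_eq_mul, Finset.card_univ,
        ← Nat.card_eq_fintype_card, card_normalizer, Nat.cast_mul]
      field_simp [cardA_ne_zero A]
    rw [← Finset.add_sum_erase _ _ (Finset.mem_univ (1 : A →* ℂˣ)), R_one_left hC hnil,
      Finset.sum_subtype _ (p := fun l : A →* ℂˣ => l ≠ 1) (fun l => by simp)
        (fun l => R l a * conj (R l a)), h, Complex.conj_natCast] at hall'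
    apply mul_left_cancel₀ hm0
    linear_combination hall'
  have htot : ∀ i : J, ∑ a : A, R (lam i) a = 0 := by
    intro i
    have h := R_inner_one hC hnil i.out
    simp only [classInner, lf, MonoidHom.one_apply, Units.val_one, map_one, mul_one,
      mul_eq_zero, inv_eq_zero, cardA_ne_zero, false_or] at h
    exact h
  have htot2 : ∀ i : J, ∑ a : A, R (lam i) a * conj (R (lam i) a)
      = (Nat.card A : ℂ) * nIndex A := by
    intro i
    have h : classInner (R (lam i)) (R (lam i)) = (nIndex A : ℂ) := by
      conv_lhs => arg 1; rw [R]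
      rw [classInner_smul_left, classInner_sum_left,
        Finset.sum_congr rfl (g := fun _ => (1 : ℂ)) (fun n _ => ?_)]
      · rw [Finset.sum_const, Finset.card_univ, nsmul_eq_mul, mul_one, ← Nat.card_eq_fintype_card,
          card_normalizer, Nat.cast_mul, ← mul_assoc, inv_mul_cancel₀ (cardA_ne_zero A), one_mul]
      · exact (lf_inner_R hC hnil ⟨twist n i.out.1, twist_ne_one i.out.2⟩ i.out).trans
          (if_pos (cls_eq.2 ⟨n, rfl⟩))
    rw [classInner, inv_mul_eq_iff_eq_mul₀ (cardA_ne_zero A)] at h
    exact h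
  -- assemble
  let σ : Fin (Fintype.card J) ≃ J := (Fintype.equivFin J).symm
  refine ⟨{ s := Fintype.card J, s_pos := hJpos, s_even := hJeven, s_mul := hsm,
            θ := fun i => θJ (σ i), M := fun i => R (lam (σ i)), ε := ε, e := e, ε_eq := hε,
            θ_irr := fun i => hθirr _, θ_inj := hθinj.comp σ.injective,
            θ_ne_one := ?_, θ_eq_off := ?_, const := ?_, θ_val := ?_, sum_M := ?_,
            sum_norm_M := ?_, total_M := ?_, total_norm_M := ?_ }⟩
  · intro i h1
    obtain ⟨j, hj⟩ := Fintype.exists_ne_of_one_lt_card (by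
      obtain ⟨k, hk⟩ := hJeven; omega) (σ i)
    have h := hrec _ (IsIrrCharacter.isClassFunction (isIrrCharacter_one (G := G))) j (σ i)
    have hone : ∀ k : J, classInner (fun _ : A => (1 : ℂ)) (φ k) = 0 := fun k =>
      classInner_eq_zero_of_ne isIrrCharacter_one (hφ k)
        (fun e => k.out.2 (linear_inj (μ := lam k) (ν := 1) (by
          show φ k = _
          rw [← e]; simp)))
    rw [hone, hone, sub_self, classInner_eq_zero_of_ne isIrrCharacter_one (hθirr j)
      (fun e => hj (hθinj (e.symm.trans h1.symm))), ← h1, classInner_self_of_isIrr (hθirr _)] at h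
    have h' : (ε : ℂ) = 0 := by linear_combination h
    rw [h', zero_mul] at hεε
    exact zero_ne_one hεε
  · intro i j g hg
    rw [← sub_eq_zero, hdiff']
    by_cases hg1 : g = 1
    · simp [I, hg1, indFun_one, φ, lf]
    · simp [I, indFun_eq_zero_of_forall_conj_not_mem A _ (fun x hx => hg1 (hg x hx))]
  · exact fun χ hχ hne => hconst χ hχ fun j => by simpa using hne (σ.symm j)
  · intro i a ha
    have h0 := he a ha
    have h1 : (fun b : A => θJ (σ i) b) - (fun b : A => θJ j₀ b)
        = (ε : ℂ) • (fun b : A => (I (σ i) - I j₀) b) := by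
      funext b
      simpa using hdiff' (σ i) j₀ (b : G)
    have h2 := congrArg (fun f => avg f a) h1
    simp only [avg_sub, avg_smul, hres, havgR] at h2
    linear_combination h2 + h0
  · intro a ha
    rw [σ.sum_comp (fun j => R (lam j) a)]
    exact hsum a ha
  · intro a ha
    rw [σ.sum_comp (fun j => R (lam j) a * conj (R (lam j) a))]
    exact hsum2 a ha
  · intro i
    have h := htot (σ i)
    rw [sum_outer, Finset.sum_congr rfl (fun t _ => R_on_commutator hC hnil _ t), Finset.sum_const,
      Finset.card_univ, nsmul_eq_mul, ← Nat.card_eq_fintype_card, ← dcard] at h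
    linear_combination h
  · intro i
    have h := htot2 (σ i)
    rw [sum_outer, Finset.sum_congr rfl (fun t _ => by
      rw [R_on_commutator hC hnil, Complex.conj_natCast]), Finset.sum_const,
      Finset.card_univ, nsmul_eq_mul, ← Nat.card_eq_fintype_card, ← dcard] at h
    linear_combination h

end CfsgLib.Frobenius.CN
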