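import Cfsg.Agent.Lib.Frobenius.CN.Group
import Cfsg.Agent.Lib.CharTheory.Linear

/-!
# Linear characters of a nilpotent subgroup and coset averages
-/

set_option autoImplicit false
set_option linter.unusedSectionVars false
set_option linter.style.haveILetI false

open scoped ComplexConjugate

namespace CfsgLib.Frobenius.CN

open Cfsg CfsgLib.CharTheory
open CfsgLib.Frobenius.CA (lf lf_inner conjA conjA_coe conjA_bijective twist twist_one_left
  twist_mul twist_ne_one NT ntAction ntSetoid cls cls_out cls_eq R nIndex card_normalizer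
  cardA_ne_zero)

universe u

variable {G : Type u} [Group G] [Fintype G] {A : Subgroup G}

/-- The order of the derived group of `A`. -/
noncomputable def dcard (A : Subgroup G) : ℕ := Nat.card (commutator A)

/-- The order of the abelianisation of `A`. -/
noncomputable def aindex (A : Subgroup G) : ℕ := (commutator A).index

theorem dcard_mul (A : Subgroup G) : dcard A * aindex A = Nat.card A :=
  (commutator A).card_mul_index

theorem dcard_pos (A : Subgroup G) : 0 < dcard A := Nat.card_pos

theorem aindex_pos (A : Subgroup G) : 0 < aindex A :=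
  Nat.pos_of_ne_zero Subgroup.index_ne_zero_of_finite

open scoped Classical in
/-- The elements outside the derived group. -/
noncomputable def outer (A : Subgroup G) [Fintype A] : Finset A :=
  Finset.univ.filter fun a : A => a ∉ commutator A

theorem mem_outer [Fintype A] {a : A} : a ∈ outer A ↔ a ∉ commutator A := by
  classical
  simp [outer]

theorem sum_outer [Fintype A] [Fintype (commutator A)] (F : A → ℂ) :
    ∑ a : A, F a = ∑ t : commutator A, F t + ∑ a ∈ outer A, F a := by
  classical
  rw [outer, ← Finset.sum_filter_add_sum_filter_not Finset.univ (fun a : A => a ∈ commutator A)]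
  congr 1
  exact Finset.sum_subtype _ (by simp) F

theorem card_outer [Fintype A] : ((outer A).card : ℂ) + (dcard A : ℂ) = (Nat.card A : ℂ) := by
  classical
  have : Fintype (commutator A) := Fintype.ofFinite _
  have h := sum_outer (A := A) (fun _ => (1 : ℂ))
  simp only [Finset.sum_const, Finset.card_univ, nsmul_eq_mul, mul_one,
    ← Nat.card_eq_fintype_card] at h
  rw [h, dcard, add_comm]

/-- The average of `f` over the coset of the derived group. -/
noncomputable def avg [Fintype (commutator A)] (f : A → ℂ) : A → ℂ :=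
  fun a => (dcard A : ℂ)⁻¹ * ∑ t : commutator A, f (a * t)

theorem avg_conj [Fintype (commutator A)] (f : A → ℂ) (a : A) :
    avg (fun b => conj (f b)) a = conj (avg f a) := by
  simp [avg, map_sum]

theorem avg_sub [Fintype (commutator A)] (f g : A → ℂ) (a : A) :
    avg (f - g) a = avg f a - avg g a := by
  simp [avg, Finset.sum_sub_distrib, mul_sub]

theorem avg_smul [Fintype (commutator A)] (c : ℂ) (f : A → ℂ) (a : A) :
    avg (c • f) a = c * avg f a := by
  simp [avg, Finset.mul_sum]
  exact Finset.sum_congr rfl fun t _ => by ring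

theorem avg_of_invariant [Fintype (commutator A)] (f : A → ℂ)
    (hf : ∀ (a : A) (t : commutator A), f (a * t) = f a) (a : A) : avg f a = f a := by
  simp only [avg, hf, Finset.sum_const, Finset.card_univ, nsmul_eq_mul, ← Nat.card_eq_fintype_card]
  rw [← dcard, ← mul_assoc, inv_mul_cancel₀ (Nat.cast_ne_zero.2 (dcard_pos A).ne'), one_mul]

theorem avg_invariant [Fintype (commutator A)] (f : A → ℂ) (a : A) (t : commutator A) :
    avg f (a * t) = avg f a := by
  simp only [avg]
  congr 1
  refine Fintype.sum_equiv (Equiv.mulLeft t) _ _ fun s => ?_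
  simp [mul_assoc]

theorem mul_mem_outer [Fintype A] {a : A} (ha : a ∈ outer A) (t : commutator A) :
    a * (t : A) ∈ outer A := by
  rw [mem_outer] at ha ⊢
  exact fun h => ha (by simpa using (commutator A).mul_mem h ((commutator A).inv_mem t.2))

/-- Averaging is self-adjoint on the outer part. -/
theorem sum_avg_mul [Fintype A] [Fintype (commutator A)] (f h : A → ℂ)
    (hh : ∀ (a : A) (t : commutator A), h (a * t) = h a) :
    ∑ a ∈ outer A, avg f a * h a = ∑ a ∈ outer A, f a * h a := by
  have hs : ∀ t : commutator A, ∑ a ∈ outer A, f (a * t) * h a = ∑ a ∈ outer A, f a * h a := by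
    intro t
    refine Finset.sum_bij' (fun a _ => a * (t : A)) (fun a _ => a * (t : A)⁻¹) ?_ ?_ ?_ ?_ ?_
    · exact fun a ha => mul_mem_outer ha t
    · exact fun a ha => by
        simpa using mul_mem_outer ha t⁻¹
    · intro a _; simp
    · intro a _; simp
    · intro a _; rw [hh]
  simp only [avg, mul_assoc, Finset.sum_mul, ← Finset.mul_sum]
  rw [Finset.sum_comm, Finset.sum_congr rfl (fun t _ => hs t), Finset.sum_const, Finset.card_univ,
    nsmul_eq_mul, ← Nat.card_eq_fintype_card, ← dcard, ← mul_assoc,
    inv_mul_cancel₀ (Nat.cast_ne_zero.2 (dcard_pos A).ne'), one_mul]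

/-- Averaging decreases the norm. -/
theorem sum_normSq_avg_le [Fintype A] [Fintype (commutator A)] (f : A → ℂ) :
    ∑ a ∈ outer A, Complex.normSq (avg f a) ≤ ∑ a ∈ outer A, Complex.normSq (f a) := by
  have h1 : ∑ a ∈ outer A, (Complex.normSq (f a - avg f a) + Complex.normSq (avg f a))
      = ∑ a ∈ outer A, Complex.normSq (f a) := by
    apply Complex.ofReal_injective
    push_cast [← Complex.mul_conj]
    have h := sum_avg_mul f (fun a => conj (avg f a))
      (fun a t => by simp only [avg_invariant])
    have h' : ∑ a ∈ outer A, avg f a * conj (f a) = ∑ a ∈ outer A, avg f a * conj (avg f a) := by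
      have := congrArg conj h
      simp only [map_sum, map_mul, Complex.conj_conj] at this
      rw [Finset.sum_congr rfl (fun a _ => mul_comm (avg f a) (conj (f a))), ← this]
      exact Finset.sum_congr rfl fun a _ => mul_comm _ _
    simp only [map_sub, sub_mul, mul_sub, Finset.sum_add_distrib, Finset.sum_sub_distrib, h', ← h]
    ring
  rw [← h1]
  exact Finset.sum_le_sum fun a _ => le_add_of_nonneg_left (Complex.normSq_nonneg _)

theorem lf_mul_commutator (l : A →* ℂˣ) (a : A) (t : commutator A) :
    lf l (a * t) = lf l a := by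
  have : l t = 1 := MonoidHom.mem_ker.1 (Abelianization.commutator_subset_ker l t.2)
  simp [lf, this]

theorem card_dual : Nat.card (A →* ℂˣ) = aindex A := by
  rw [aindex, ← card_linear (G := A), Nat.card_congr linearEquivHom]

theorem finite_dual : Finite (A →* ℂˣ) :=
  Nat.finite_of_card_ne_zero (by rw [card_dual]; exact (aindex_pos A).ne')

theorem conj_lf (l : A →* ℂˣ) (a : A) : conj (lf l a) = lf l a⁻¹ :=
  (IsIrrCharacter.inv (isIrrCharacter_linear l) a).symm

theorem sum_lf [Fintype (A →* ℂˣ)] (a : A) [Decidable (a ∈ commutator A)] :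
    ∑ l : A →* ℂˣ, lf l a = if a ∈ commutator A then (aindex A : ℂ) else 0 := by
  split_ifs with h
  · have h1 : ∀ l : A →* ℂˣ, lf l a = 1 := fun l => by
      have : l a = 1 := MonoidHom.mem_ker.1 (Abelianization.commutator_subset_ker l h)
      simp [lf, this]
    simp [h1, ← Nat.card_eq_fintype_card, card_dual]
  · have hne : Abelianization.of a ≠ 1 := fun e => h (by
      rw [← Abelianization.ker_of, MonoidHom.mem_ker]; exact e)
    haveI : Finite (Abelianization A) := Quotient.finite _
    have : NeZero (Monoid.exponent (Abelianization A)) := ⟨Monoid.exponent_ne_zero_of_finite⟩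
    obtain ⟨φ, hφ⟩ := CommGroup.exists_apply_ne_one_of_hasEnoughRootsOfUnity (Abelianization A) ℂ hne
    let ψ : A →* ℂˣ := φ.comp Abelianization.of
    have h1 : ∑ l : A →* ℂˣ, lf l a = (ψ a : ℂ) * ∑ l : A →* ℂˣ, lf l a := by
      rw [Finset.mul_sum]
      exact (Fintype.sum_equiv (Equiv.mulLeft ψ) _ _ fun l => by simp [lf]).symm
    have h2 : (ψ a : ℂ) ≠ 1 := fun e => hφ (Units.ext e)
    have h3 : ((ψ a : ℂ) - 1) * ∑ l : A →* ℂˣ, lf l a = 0 := by
      rw [sub_mul, one_mul, ← h1, sub_self]
    exact (mul_eq_zero.1 h3).resolve_left (sub_ne_zero.2 h2)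

/-- Coset averages by linear characters. -/
theorem expand [Fintype A] [Fintype (commutator A)] [Fintype (A →* ℂˣ)] (f : A → ℂ) (a : A) :
    avg f a = ∑ l : A →* ℂˣ, classInner f (lf l) * lf l a := by
  classical
  have h : ∀ b : A, ∑ l : A →* ℂˣ, conj (lf l b) * lf l a
      = if b⁻¹ * a ∈ commutator A then (aindex A : ℂ) else 0 := by
    intro b
    rw [← sum_lf]
    refine Finset.sum_congr rfl fun l _ => ?_
    rw [conj_lf]
    simp [lf]
  have hcoset : ∑ t : commutator A, f (a * t)
      = ∑ b ∈ Finset.univ.filter (fun b : A => b⁻¹ * a ∈ commutator A), f b := by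
    refine Finset.sum_bij' (fun t _ => a * (t : A))
      (fun b hb => ⟨a⁻¹ * b, by
        simpa using (commutator A).inv_mem (Finset.mem_filter.1 hb).2⟩) ?_ ?_ ?_ ?_ ?_
    · intro t _
      rw [Finset.mem_filter]
      exact ⟨Finset.mem_univ _, by simp⟩
    · intro b _; exact Finset.mem_univ _
    · intro t _; apply Subtype.ext; simp
    · intro b _; simp
    · intro t _; rfl
  symm
  calc ∑ l : A →* ℂˣ, classInner f (lf l) * lf l a
      = (Nat.card A : ℂ)⁻¹ * ∑ b : A, f b * ∑ l : A →* ℂˣ, conj (lf l b) * lf l a := by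
        simp only [classInner, Finset.mul_sum, Finset.sum_mul]
        rw [Finset.sum_comm]
        exact Finset.sum_congr rfl fun b _ => Finset.sum_congr rfl fun l _ => by ring
    _ = avg f a := by
        simp only [h, mul_ite, mul_zero, ← Finset.sum_filter, ← Finset.sum_mul]
        rw [← hcoset, avg, ← dcard_mul, Nat.cast_mul]
        have := (aindex_pos A).ne'
        field_simp

/-- A function with constant inner products with the non-trivial linear characters has constant
averages off the derived group. -/
theorem avg_of_inner [Fintype A] [Fintype (commutator A)] (f : A → ℂ) (d c : ℤ)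
    (h1 : classInner f (lf 1) = (d : ℂ))
    (hl : ∀ l : A →* ℂˣ, l ≠ 1 → classInner f (lf l) = (c : ℂ)) (a : A)
    (ha : a ∉ commutator A) : avg f a = ((d - c : ℤ) : ℂ) := by
  classical
  have := finite_dual (A := A)
  have := Fintype.ofFinite (A →* ℂˣ)
  have h0 := sum_lf a
  rw [if_neg ha, ← Finset.add_sum_erase _ _ (Finset.mem_univ (1 : A →* ℂˣ))] at h0
  rw [expand f a, ← Finset.add_sum_erase _ _ (Finset.mem_univ (1 : A →* ℂˣ)), h1,
    Finset.sum_congr rfl (g := fun l => (c : ℂ) * lf l a)
      (fun l hl' => by rw [hl l (Finset.ne_of_mem_erase hl')]), ← Finset.mul_sum,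
    eq_neg_of_add_eq_zero_right h0]
  simp [lf, sub_eq_add_neg]

variable (hC : ∀ a ∈ A, a ≠ 1 → Subgroup.centralizer ({a} : Set G) ≤ A)
  (hnil : Group.IsNilpotent A)
include hC hnil

theorem mem_of_twist_eq {n : Subgroup.normalizer (A : Set G)} {l : A →* ℂˣ} (hl : l ≠ 1)
    (h : twist n l = l) : (n : G) ∈ A := by
  by_contra hn
  refine hl ?_
  have hmap : commutator A ≤ (commutator A).comap (conjA n) := by
    rw [← Subgroup.map_le_iff_le_comap, commutator_def, Subgroup.map_commutator]
    exact Subgroup.commutator_mono le_top le_top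
  let φ : A ⧸ commutator A →* A ⧸ commutator A :=
    QuotientGroup.map (commutator A) (commutator A) (conjA n) hmap
  let f : A ⧸ commutator A → A ⧸ commutator A := fun q => φ q * q⁻¹
  have hcomm : ∀ q r : A ⧸ commutator A, q * r = r * q := fun q r =>
    mul_comm (G := Abelianization A) q r
  have hfix : ∀ q, φ q = q → q = 1 := by
    intro q
    induction q using QuotientGroup.induction_on with
    | H a =>
      intro hq
      by_contra hq1
      refine hn (mem_of_conjA_mem hC hnil n a (fun e => hq1 ((QuotientGroup.eq_one_iff a).2 e)) ?_)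
      refine (QuotientGroup.eq_one_iff _).1 ?_
      rw [QuotientGroup.mk_mul, QuotientGroup.mk_inv]
      exact mul_inv_eq_one.2 hq
  have hinj : Function.Injective f := by
    intro q r e
    have h1 : φ (r⁻¹ * q) = r⁻¹ * q := by
      have e' : φ q * q⁻¹ = φ r * r⁻¹ := e
      rw [map_mul, map_inv, show φ q = φ r * r⁻¹ * q by rw [← e']; group]
      group
    exact (inv_mul_eq_one.1 (hfix _ h1)).symm
  refine MonoidHom.ext fun a => ?_
  obtain ⟨q, hq⟩ := Finite.surjective_of_injective hinj (a : A ⧸ commutator A)
  induction q using QuotientGroup.induction_on with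
  | H b =>
    have hb : ((conjA n b * b⁻¹ : A) : A ⧸ commutator A) = (a : A ⧸ commutator A) := hq
    have h1 : (conjA n b * b⁻¹)⁻¹ * a ∈ commutator A := QuotientGroup.eq.1 hb
    have h2 : l ((conjA n b * b⁻¹)⁻¹ * a) = 1 :=
      MonoidHom.mem_ker.1 (Abelianization.commutator_subset_ker l h1)
    rw [map_mul, map_inv, map_mul, map_inv,
      show l (conjA n b) = l b from DFunLike.congr_fun h b, mul_inv_cancel, inv_one, one_mul] at h2
    exact h2

theorem twist_of_mem {n : Subgroup.normalizer (A : Set G)} (hn : (n : G) ∈ A) (l : A →* ℂˣ) :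
    twist n l = l := by
  refine MonoidHom.ext fun a => ?_
  have e : conjA n a = (⟨(n : G), hn⟩ : A)⁻¹ * a * ⟨(n : G), hn⟩ := by
    apply Subtype.ext
    simp [conjA_coe]
  show l (conjA n a) = l a
  rw [e, map_mul, map_mul, map_inv, mul_comm (l _)⁻¹ (l a), inv_mul_cancel_right]

theorem card_twist_eq {l l' : A →* ℂˣ} (hl : l ≠ 1) (n₀ : Subgroup.normalizer (A : Set G))
    (h₀ : twist n₀ l = l') :
    Nat.card {n : Subgroup.normalizer (A : Set G) // twist n l = l'} = Nat.card A := by
  refine Nat.card_congr
    { toFun := fun n => ⟨((n₀⁻¹ * n.1 : Subgroup.normalizer (A : Set G)) : G),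
        mem_of_twist_eq hC hnil hl (by rw [twist_mul, n.2, ← h₀, ← twist_mul, inv_mul_cancel,
          twist_one_left])⟩
      invFun := fun a => ⟨n₀ * ⟨(a : G), Subgroup.le_normalizer a.2⟩, by
        rw [twist_mul, twist_of_mem hC hnil (n := ⟨(a : G), Subgroup.le_normalizer a.2⟩) a.2, h₀]⟩
      left_inv := fun n => by apply Subtype.ext; apply Subtype.ext; simp
      right_inv := fun a => by apply Subtype.ext; simp }

theorem indFun_eq_R [Fintype (Subgroup.normalizer (A : Set G))] (l : A →* ℂˣ) (a : A)
    (ha : a ≠ 1) : indFun A (lf l) (a : G) = R l a := by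
  classical
  simp only [indFun, R, Pi.smul_apply, Finset.sum_apply, smul_eq_mul]
  congr 1
  have hsub : ∑ x : G, extendByZero A (lf l) (x⁻¹ * a * x)
      = ∑ x ∈ Finset.univ.filter (fun x : G => x ∈ Subgroup.normalizer (A : Set G)),
          extendByZero A (lf l) (x⁻¹ * a * x) := by
    symm
    refine Finset.sum_subset (Finset.filter_subset _ _) fun x _ hx => ?_
    refine extendByZero_of_not_mem A _ fun hm => hx ?_
    simpa using mem_normalizer_of_conj hC hnil a.2 (fun e => ha (Subtype.ext e)) hm
  rw [hsub, Finset.sum_subtype _ (p := fun x : G => x ∈ Subgroup.normalizer (A : Set G))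
    (fun x => by simp) (fun x => extendByZero A (lf l) (x⁻¹ * a * x))]
  exact Finset.sum_congr rfl fun n _ => extendByZero_coe A (lf l) (conjA n a)

theorem R_mul_commutator [Fintype (Subgroup.normalizer (A : Set G))] (l : A →* ℂˣ) (a : A)
    (t : commutator A) : R l (a * t) = R l a := by
  simp only [R, Pi.smul_apply, Finset.sum_apply, smul_eq_mul, lf_mul_commutator]

theorem R_one [Fintype (Subgroup.normalizer (A : Set G))] (l : A →* ℂˣ) :
    R l 1 = (nIndex A : ℂ) := by
  simp only [R, Pi.smul_apply, Finset.sum_apply, smul_eq_mul, lf, map_one, Units.val_one,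
    Finset.sum_const, Finset.card_univ, nsmul_eq_mul, mul_one, ← Nat.card_eq_fintype_card,
    card_normalizer, Nat.cast_mul]
  rw [← mul_assoc, inv_mul_cancel₀ (cardA_ne_zero A), one_mul]

theorem R_on_commutator [Fintype (Subgroup.normalizer (A : Set G))] (l : A →* ℂˣ)
    (t : commutator A) : R l (t : A) = (nIndex A : ℂ) := by
  have := R_mul_commutator hC hnil l 1 t
  rw [one_mul] at this
  rw [this, R_one hC hnil]

theorem R_one_left [Fintype (Subgroup.normalizer (A : Set G))] (a : A) :
    R (1 : A →* ℂˣ) a = (nIndex A : ℂ) := by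
  have h1 : ∀ n : Subgroup.normalizer (A : Set G), lf (twist n (1 : A →* ℂˣ)) a = 1 :=
    fun n => by simp [lf, twist]
  simp only [R, Pi.smul_apply, Finset.sum_apply, smul_eq_mul, h1,
    Finset.sum_const, Finset.card_univ, nsmul_eq_mul, mul_one,
    ← Nat.card_eq_fintype_card, card_normalizer, Nat.cast_mul]
  rw [← mul_assoc, inv_mul_cancel₀ (cardA_ne_zero A), one_mul]

theorem lf_inner_R [Fintype A] [Fintype (Subgroup.normalizer (A : Set G))] (l l' : NT A)
    [Decidable (cls l = cls l')] :
    classInner (lf l.1) (R l'.1) = if cls l = cls l' then 1 else 0 := by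
  classical
  simp only [R, classInner_smul_right, classInner_sum_right, lf_inner, map_inv₀, Complex.conj_natCast]
  rw [Finset.sum_boole]
  by_cases h : cls l = cls l'
  · obtain ⟨n₀, hn₀⟩ := cls_eq.1 h
    rw [if_pos h, Finset.filter_congr (q := fun n => twist n l'.1 = l.1) fun n _ => eq_comm,
      ← Fintype.card_subtype, ← Nat.card_eq_fintype_card, card_twist_eq hC hnil l'.2 n₀ hn₀,
      inv_mul_cancel₀ (cardA_ne_zero A)]
  · rw [if_neg h, Finset.filter_false_of_mem fun n _ e => h (cls_eq.2 ⟨n, e.symm⟩)]
    simp

theorem R_inner_one [Fintype A] [Fintype (Subgroup.normalizer (A : Set G))] (l : NT A) :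
    classInner (R l.1) (lf 1) = 0 := by
  classical
  simp only [R, classInner_smul_left, classInner_sum_left, lf_inner,
    if_neg (twist_ne_one l.2), Finset.sum_const_zero, mul_zero]

/-- The sum over an orbit decomposition. -/
theorem orbit_sum [Fintype (NT A)] [Fintype (Quotient (ntSetoid A))] (f : NT A → ℂ)
    (hf : ∀ l l', cls l = cls l' → f l = f l') :
    ∑ l : NT A, f l = (nIndex A : ℂ) * ∑ i : Quotient (ntSetoid A), f i.out := by
  classical
  rw [Finset.mul_sum, ← Finset.sum_fiberwise Finset.univ (fun l : NT A => cls l)]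
  refine Finset.sum_congr rfl fun i _ => ?_
  have hcard : (Finset.univ.filter fun l : NT A => cls l = i).card = nIndex A := by
    have hN := Finset.card_eq_sum_card_fiberwise
      (s := (Finset.univ : Finset (Subgroup.normalizer (A : Set G))))
      (t := Finset.univ.filter fun l : NT A => cls l = i)
      (f := fun n => (⟨twist n i.out.1, twist_ne_one i.out.2⟩ : NT A))
      (fun n _ => by
        rw [Finset.mem_coe, Finset.mem_filter]
        exact ⟨Finset.mem_univ _, (cls_eq.2 ⟨n, rfl⟩).trans (cls_out i)⟩)
    have hfib : ∀ l ∈ Finset.univ.filter (fun l : NT A => cls l = i),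
        (Finset.univ.filter fun n : Subgroup.normalizer (A : Set G) =>
          (⟨twist n i.out.1, twist_ne_one i.out.2⟩ : NT A) = l).card = Nat.card A := by
      intro l hl
      obtain ⟨n₀, hn₀⟩ := cls_eq.1 ((Finset.mem_filter.1 hl).2.trans (cls_out i).symm)
      rw [← Fintype.card_subtype, ← Nat.card_eq_fintype_card,
        ← card_twist_eq hC hnil i.out.2 n₀ hn₀]
      exact Nat.card_congr (Equiv.subtypeEquivRight fun n => Subtype.ext_iff)
    rw [Finset.card_univ, ← Nat.card_eq_fintype_card, card_normalizer, Finset.sum_congr rfl hfib,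
      Finset.sum_const, smul_eq_mul, mul_comm] at hN
    exact (Nat.eq_of_mul_eq_mul_right Nat.card_pos hN).symm
  rw [Finset.sum_congr rfl (g := fun _ => f i.out) (fun l hl => hf l i.out
    ((Finset.mem_filter.1 hl).2.trans (cls_out i).symm)), Finset.sum_const, nsmul_eq_mul, hcard]

theorem twist_R_eq [Fintype (Subgroup.normalizer (A : Set G))] {l l' : NT A}
    (h : cls l = cls l') : R l.1 = R l'.1 := by
  obtain ⟨n₀, hn₀⟩ := cls_eq.1 h
  simp only [R]
  congr 1
  exact Fintype.sum_equiv (Equiv.mulRight n₀) _ _ fun n => by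
    rw [Equiv.coe_mulRight, twist_mul, hn₀]

end CfsgLib.Frobenius.CN
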