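import Cfsg.Agent.Lib.Frobenius.CN.Family
import Cfsg.Agent.Lib.Frobenius.BrauerPerm
import Mathlib.Data.ZMod.Basic
import Mathlib.Data.Fintype.Option
import Mathlib.Data.Fintype.Sigma

/-!
# The counting argument for groups of odd order covered by nilpotent TI-subgroups
-/

set_option autoImplicit false
set_option linter.unusedSectionVars false

open scoped ComplexConjugate

namespace CfsgLib.Frobenius.CN

open Cfsg CfsgLib.CharTheory
open CfsgLib.Frobenius.CA (nIndex card_normalizer cardA_ne_zero punct mem_punct sum_coe_eq)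

universe u v

variable {G : Type u} [Group G] [Fintype G]

/-- A covering of the non-identity elements by pairwise non-conjugate nilpotent subgroups
containing the centralizers of their non-identity elements. -/
structure System (G : Type u) [Group G] (ι : Type v) where
  A : ι → Subgroup G
  hC : ∀ k, ∀ a ∈ A k, a ≠ 1 → Subgroup.centralizer ({a} : Set G) ≤ A k
  nilp : ∀ k, Group.IsNilpotent (A k)
  ne_bot : ∀ k, A k ≠ ⊥
  cover : ∀ g : G, g ≠ 1 → ∃ k, ∃ h : G, h⁻¹ * g * h ∈ A k
  uniq : ∀ k l, ∀ a ∈ A k, a ≠ 1 → ∀ h : G, h⁻¹ * a * h ∈ A l → k = l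
  coprime : ∀ k l, k ≠ l → (Nat.card (A k)).Coprime (Nat.card (A l))
  one_lt : ∀ k, 1 < nIndex (A k)

variable {ι : Type v} [Fintype ι] (S : System G ι)
include S

theorem sum_ne_one [DecidableEq G] (F : G → ℂ) (hF : IsClassFunction G F) :
    ∑ g ∈ Finset.univ.erase (1 : G), F g
      = ∑ k, (Nat.card G : ℂ) / ((Nat.card (S.A k) : ℂ) * (nIndex (S.A k) : ℂ))
          * ∑ a ∈ punct (S.A k), F a := by
  classical
  have hmul : ∀ g : G, g ≠ 1 → ∑ k,
      ((Nat.card (S.A k) : ℂ) * (nIndex (S.A k) : ℂ))⁻¹ *
        ((Finset.univ.filter fun x : G => x⁻¹ * g * x ∈ S.A k).card : ℂ) = 1 := by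
    intro g hg
    obtain ⟨k, h, hk⟩ := S.cover g hg
    have ha1 : h⁻¹ * g * h ≠ 1 := fun e => hg (by
      simpa [mul_assoc] using congrArg (fun t => h * t * h⁻¹) e)
    rw [Finset.sum_eq_single k]
    · have hcard : (Finset.univ.filter fun x : G => x⁻¹ * g * x ∈ S.A k).card
          = Nat.card (S.A k) * nIndex (S.A k) := by
        rw [← card_normalizer, ← Fintype.card_subtype, ← Nat.card_eq_fintype_card]
        exact Nat.card_congr
          { toFun := fun x => ⟨h⁻¹ * x.1, mem_normalizer_of_conj (S.hC k) (S.nilp k) hk ha1 (by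
              simpa [mul_assoc] using x.2)⟩
            invFun := fun n => ⟨h * n, by
              have := (Subgroup.mem_normalizer_iff.1 (inv_mem n.2) (h⁻¹ * g * h)).1 hk
              simpa [mul_assoc] using this⟩
            left_inv := fun x => by apply Subtype.ext; simp
            right_inv := fun n => by apply Subtype.ext; simp }
      rw [hcard, ← Nat.cast_mul, inv_mul_cancel₀]
      exact Nat.cast_ne_zero.2 (Nat.mul_pos Nat.card_pos (nIndex_pos _)).ne'
    · intro l _ hl
      rw [Finset.filter_false_of_mem, Finset.card_empty, Nat.cast_zero, mul_zero]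
      intro x _ hx
      refine hl (S.uniq k l _ hk ha1 (h⁻¹ * x) ?_).symm
      simpa [mul_assoc] using hx
    · simp
  have hpunct : ∀ (k : ι) (x : G), ∑ a ∈ punct (S.A k), F a
      = ∑ g ∈ (Finset.univ.erase (1 : G)).filter (fun g => x⁻¹ * g * x ∈ S.A k), F g := by
    intro k x
    refine Finset.sum_bij' (fun a _ => x * a * x⁻¹) (fun g _ => x⁻¹ * g * x) ?_ ?_ ?_ ?_ ?_
    · intro a ha
      rw [mem_punct] at ha
      simp only [Finset.mem_filter, Finset.mem_erase, Finset.mem_univ, and_true]
      exact ⟨fun e => ha.2 (conj_eq_one_iff.1 e), by simpa [mul_assoc] using ha.1⟩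
    · intro g hg
      simp only [Finset.mem_filter, Finset.mem_erase, Finset.mem_univ, and_true] at hg
      exact mem_punct.2 ⟨hg.2, fun e => hg.1 (by
        simpa [mul_assoc] using congrArg (fun t => x * t * x⁻¹) e)⟩
    · intro a _; simp [mul_assoc]
    · intro g _; simp [mul_assoc]
    · intro a _; exact (hF a x).symm
  symm
  calc ∑ k, (Nat.card G : ℂ) / ((Nat.card (S.A k) : ℂ) * (nIndex (S.A k) : ℂ))
          * ∑ a ∈ punct (S.A k), F a
      = ∑ k, ∑ x : G, ((Nat.card (S.A k) : ℂ) * (nIndex (S.A k) : ℂ))⁻¹ *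
          ∑ g ∈ (Finset.univ.erase (1 : G)).filter (fun g => x⁻¹ * g * x ∈ S.A k), F g := by
        refine Finset.sum_congr rfl fun k _ => ?_
        simp only [← hpunct k, Finset.sum_const, Finset.card_univ, nsmul_eq_mul,
          ← Nat.card_eq_fintype_card]
        ring
    _ = ∑ g ∈ Finset.univ.erase (1 : G), F g * ∑ k,
          ((Nat.card (S.A k) : ℂ) * (nIndex (S.A k) : ℂ))⁻¹ *
          ((Finset.univ.filter fun x : G => x⁻¹ * g * x ∈ S.A k).card : ℂ) := by
        simp only [Finset.mul_sum, Finset.sum_filter, ← Finset.sum_boole]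
        rw [Finset.sum_comm (s := Finset.univ.erase (1 : G))]
        refine Finset.sum_congr rfl fun k _ => ?_
        rw [Finset.sum_comm]
        refine Finset.sum_congr rfl fun g _ => Finset.sum_congr rfl fun x _ => ?_
        split_ifs <;> ring
    _ = ∑ g ∈ Finset.univ.erase (1 : G), F g :=
        Finset.sum_congr rfl fun g hg => by rw [hmul g (Finset.ne_of_mem_erase hg), mul_one]

theorem card_punct (k : ι) : ((punct (S.A k)).card : ℂ) + 1 = (Nat.card (S.A k) : ℂ) := by
  classical
  have : Fintype (S.A k) := Fintype.ofFinite _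
  have h := sum_coe_eq (S.A k) (fun _ => (1 : ℂ))
  simp only [Finset.sum_const, Finset.card_univ, nsmul_eq_mul, mul_one,
    ← Nat.card_eq_fintype_card] at h
  rw [h, add_comm]

/-- There is no group of odd order covered by such a system. -/
theorem false_of_system [Nontrivial G] (hodd : Odd (Nat.card G)) : False := by
  classical
  have fam : ∀ k, Family (S.A k) :=
    fun k => (nonempty_family (S.A k) (S.hC k) (S.nilp k) (S.ne_bot k) hodd).some
  have hs2 : ∀ k, 2 ≤ (fam k).s := fun k => by
    obtain ⟨j, hj⟩ := (fam k).s_even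
    have := (fam k).s_pos
    omega
  let zero : ∀ k, Fin (fam k).s := fun k => ⟨0, (fam k).s_pos⟩
  -- differences in distinct families are orthogonal
  have hzero : ∀ k l, k ≠ l → ∀ i i' j j',
      classInner ((fam k).θ i - (fam k).θ i') ((fam l).θ j - (fam l).θ j') = 0 := by
    intro k l hkl i i' j j'
    rw [classInner, Finset.sum_eq_zero, mul_zero]
    intro g _
    by_cases hg : g = 1
    · rw [Pi.sub_apply, (fam k).θ_eq_off i i' g (fun _ _ => hg), sub_self, zero_mul]
    by_cases hk : ∀ h : G, h⁻¹ * g * h ∈ S.A k → g = 1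
    · rw [Pi.sub_apply, (fam k).θ_eq_off i i' g hk, sub_self, zero_mul]
    · push Not at hk
      obtain ⟨h, hh, -⟩ := hk
      rw [Pi.sub_apply ((fam l).θ j), (fam l).θ_eq_off j j' g (fun x hx => ?_), sub_self,
        map_zero, mul_zero]
      refine absurd (S.uniq k l _ hh (fun e => hg (by
        simpa [mul_assoc] using congrArg (fun t => h * t * h⁻¹) e)) (h⁻¹ * x) ?_) hkl
      simpa [mul_assoc] using hx
  have hdist : ∀ k l, k ≠ l → ∀ i j, (fam k).θ i ≠ (fam l).θ j := by
    intro k l hkl i j he
    obtain ⟨i', hi'⟩ := Fintype.exists_ne_of_one_lt_card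
      (by rw [Fintype.card_fin]; exact hs2 k) i
    obtain ⟨j', hj'⟩ := Fintype.exists_ne_of_one_lt_card
      (by rw [Fintype.card_fin]; exact hs2 l) j
    have h := hzero k l hkl i i' j j'
    rw [classInner_sub_left, classInner_sub_right, classInner_sub_right,
      classInner_irr ((fam k).θ_irr i) ((fam l).θ_irr j), if_pos he,
      classInner_irr ((fam k).θ_irr i) ((fam l).θ_irr j'),
      if_neg (fun e => hj' ((fam l).θ_inj (e.symm.trans he))),
      classInner_irr ((fam k).θ_irr i') ((fam l).θ_irr j),
      if_neg (fun e => hi' ((fam k).θ_inj (e.trans he.symm))),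
      classInner_irr ((fam k).θ_irr i') ((fam l).θ_irr j')] at h
    split_ifs at h <;> norm_num at h
  let Ψ : Option (Σ k, Fin (fam k).s) → IrrCharacter G :=
    fun o => o.elim (trivIrr G) (fun p => ⟨(fam p.1).θ p.2, (fam p.1).θ_irr p.2⟩)
  have hΨinj : Function.Injective Ψ := by
    rintro (_ | ⟨k, i⟩) (_ | ⟨l, j⟩) he
    · rfl
    · exact absurd (congrArg Subtype.val he).symm ((fam l).θ_ne_one j)
    · exact absurd (congrArg Subtype.val he) ((fam k).θ_ne_one i)
    · have he' : (fam k).θ i = (fam l).θ j := congrArg Subtype.val he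
      by_cases hkl : k = l
      · subst hkl
        rw [(fam k).θ_inj he']
      · exact absurd he' (hdist k l hkl i j)
  have : Fintype (IrrCharacter G) := Fintype.ofFinite _
  -- averages of characters
  let av : (k : ι) → (G → ℂ) → S.A k → ℂ := fun k χ => avg (fun b : S.A k => χ b)
  have hpick : ∀ k, ∃ x : S.A k, x ∉ commutator (S.A k) := fun k => by
    obtain ⟨x, -, hx⟩ := SetLike.exists_of_lt
      (lt_top_iff_ne_top.2 (commutator_ne_top (S.hC k) (S.nilp k) (S.ne_bot k)))
    exact ⟨x, hx⟩
  choose pick hpick using hpick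
  have hne1 : ∀ (k : ι) (a : S.A k), a ∉ commutator (S.A k) → ∀ t : commutator (S.A k),
      ((a * (t : S.A k) : S.A k) : G) ≠ 1 := by
    intro k a ha t h
    have h' : a * (t : S.A k) = 1 := Subtype.ext h
    rw [mul_eq_one_iff_eq_inv] at h'
    exact ha (h' ▸ (commutator (S.A k)).inv_mem t.2)
  -- column relations
  have hcol : ∀ (i k : ι) (x : S.A i) (y : S.A k),
      ∑ χ : IrrCharacter G, av i χ x * conj (av k χ y)
        = (dcard (S.A i) : ℂ)⁻¹ * (dcard (S.A k) : ℂ)⁻¹ *
            ∑ t : commutator (S.A i), ∑ t' : commutator (S.A k),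
              if IsConj ((x * (t : S.A i) : S.A i) : G) ((y * (t' : S.A k) : S.A k) : G) then
                (Nat.card (Subgroup.centralizer ({((x * (t : S.A i) : S.A i) : G)} : Set G)) : ℂ)
              else 0 := by
    intro i k x y
    have e : ∀ (t : commutator (S.A i)) (t' : commutator (S.A k)),
        (if IsConj ((x * (t : S.A i) : S.A i) : G) ((y * (t' : S.A k) : S.A k) : G) then
            (Nat.card (Subgroup.centralizer ({((x * (t : S.A i) : S.A i) : G)} : Set G)) : ℂ)
          else 0)
        = ∑ χ : IrrCharacter G, (χ : G → ℂ) ((x * (t : S.A i) : S.A i) : G)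
            * conj ((χ : G → ℂ) ((y * (t' : S.A k) : S.A k) : G)) := fun t t' =>
      ((sum_mul_conj _ _).trans (by congr)).symm
    simp only [e]
    simp only [av, avg, map_mul, map_inv₀, Complex.conj_natCast, map_sum, Finset.mul_sum,
      Finset.sum_mul]
    rw [Finset.sum_comm]
    rw [Finset.sum_congr rfl fun t _ => Finset.sum_comm]
    refine Finset.sum_comm.trans ?_
    refine Finset.sum_congr rfl fun t _ => Finset.sum_congr rfl fun t' _ =>
      Finset.sum_congr rfl fun χ _ => ?_
    ring
  have hcol_off : ∀ i k, i ≠ k →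
      ∑ χ : IrrCharacter G, av i χ (pick i) * conj (av k χ (pick k)) = 0 := by
    intro i k hik
    rw [hcol, Finset.sum_eq_zero, mul_zero]
    intro t _
    refine Finset.sum_eq_zero fun t' _ => if_neg fun hcj => hik ?_
    obtain ⟨g, hg⟩ := isConj_iff.1 hcj
    exact S.uniq i k _ (pick i * (t : S.A i)).2 (hne1 i _ (hpick i) t) g⁻¹
      (by rw [inv_inv, hg]; exact (pick k * (t' : S.A k)).2)
  have hcol_diag : ∀ i,
      ∑ χ : IrrCharacter G, av i χ (pick i) * conj (av i χ (pick i)) = (aindex (S.A i) : ℂ) := by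
    intro i
    rw [hcol]
    have hrow : ∀ t : commutator (S.A i), ∑ t' : commutator (S.A i),
        (if IsConj ((pick i * (t : S.A i) : S.A i) : G) ((pick i * (t' : S.A i) : S.A i) : G) then
            (Nat.card (Subgroup.centralizer ({((pick i * (t : S.A i) : S.A i) : G)} : Set G)) : ℂ)
          else 0) = (Nat.card (S.A i) : ℂ) := by
      intro t
      set a := pick i * (t : S.A i) with ha
      have hmem : ∀ g : S.A i, (pick i)⁻¹ * (g * a * g⁻¹) ∈ commutator (S.A i) := by
        intro g
        refine (QuotientGroup.eq_one_iff _).1 ?_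
        have hab : ∀ q r : S.A i ⧸ commutator (S.A i), q * r = r * q := fun q r =>
          mul_comm (G := Abelianization (S.A i)) q r
        rw [ha, QuotientGroup.mk_mul, QuotientGroup.mk_mul, QuotientGroup.mk_mul,
          QuotientGroup.mk_mul, (QuotientGroup.eq_one_iff (t : S.A i)).2 t.2, mul_one,
          QuotientGroup.mk_inv, QuotientGroup.mk_inv,
          hab (g : S.A i ⧸ commutator (S.A i)) ((pick i : S.A i) : S.A i ⧸ commutator (S.A i))]
        group
      let φ : S.A i → commutator (S.A i) := fun g => ⟨(pick i)⁻¹ * (g * a * g⁻¹), hmem g⟩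
      have hfib : ∀ t' : commutator (S.A i),
          ((Finset.univ.filter fun g : S.A i => φ g = t').card : ℂ)
            = if IsConj (a : G) ((pick i * (t' : S.A i) : S.A i) : G) then
                (Nat.card (Subgroup.centralizer ({(a : G)} : Set G)) : ℂ) else 0 := by
        intro t'
        have hiff : ∀ g : S.A i, φ g = t' ↔
            (g : G) * a * (g : G)⁻¹ = ((pick i * (t' : S.A i) : S.A i) : G) := by
          intro g
          rw [Subtype.ext_iff]
          show (pick i)⁻¹ * (g * a * g⁻¹) = (t' : S.A i) ↔ _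
          rw [inv_mul_eq_iff_eq_mul, Subtype.ext_iff]
          simp
        split_ifs with hcj
        · obtain ⟨h, hh⟩ := isConj_iff.1 hcj
          have hha : h⁻¹⁻¹ * (a : G) * h⁻¹ ∈ S.A i := by
            rw [inv_inv, hh]; exact (pick i * (t' : S.A i)).2
          have hN := mem_normalizer_of_conj (S.hC i) (S.nilp i) a.2 (hne1 i _ (hpick i) t) hha
          have hout : a ∉ commutator (S.A i) := fun hm => hpick i (by
            have := (commutator (S.A i)).mul_mem hm ((commutator (S.A i)).inv_mem t.2)
            simpa [ha] using this)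
          have hhA : h ∈ S.A i := by
            have := mem_of_conjA_mem (S.hC i) (S.nilp i) ⟨h⁻¹, hN⟩ a hout ?_
            · simpa using this
            · have e : CA.conjA ⟨h⁻¹, hN⟩ a = pick i * (t' : S.A i) := by
                apply Subtype.ext
                rw [CA.conjA_coe]
                simpa using hh
              refine (QuotientGroup.eq_one_iff _).1 ?_
              rw [e, QuotientGroup.mk_mul, QuotientGroup.mk_inv, QuotientGroup.mk_mul,
                (QuotientGroup.eq_one_iff (t' : S.A i)).2 t'.2, mul_one, ha, QuotientGroup.mk_mul,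
                (QuotientGroup.eq_one_iff (t : S.A i)).2 t.2, mul_one, mul_inv_cancel]
          norm_cast
          rw [← Fintype.card_subtype, ← Nat.card_eq_fintype_card]
          refine Nat.card_congr
            { toFun := fun g => ⟨h⁻¹ * (g.1 : G), Subgroup.mem_centralizer_singleton_iff.2 ?_⟩
              invFun := fun c => ⟨⟨h * (c : G), (S.A i).mul_mem hhA
                  (S.hC i a a.2 (hne1 i _ (hpick i) t) c.2)⟩, (hiff _).2 ?_⟩
              left_inv := fun g => by apply Subtype.ext; apply Subtype.ext; simp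
              right_inv := fun c => by apply Subtype.ext; simp }
          · have e := (hiff g.1).1 g.2
            calc h⁻¹ * (g.1 : G) * a = h⁻¹ * ((g.1 : G) * a * (g.1 : G)⁻¹) * (g.1 : G) := by group
              _ = h⁻¹ * (h * a * h⁻¹) * (g.1 : G) := by rw [e, hh]
              _ = (a : G) * (h⁻¹ * (g.1 : G)) := by group
          · have e := Subgroup.mem_centralizer_singleton_iff.1 c.2
            show h * (c : G) * a * (h * (c : G))⁻¹ = _
            calc h * (c : G) * a * (h * (c : G))⁻¹ = h * ((c : G) * a) * (c : G)⁻¹ * h⁻¹ := by group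
              _ = h * ((a : G) * c) * (c : G)⁻¹ * h⁻¹ := by rw [e]
              _ = h * a * h⁻¹ := by group
              _ = _ := hh
        · rw [Finset.filter_false_of_mem fun (g : S.A i) _ e =>
            hcj (isConj_iff.2 ⟨(g : G), (hiff g).1 e⟩)]
          simp
      rw [← Finset.sum_congr rfl (fun t' _ => hfib t'), ← Nat.cast_sum,
        ← Finset.card_eq_sum_card_fiberwise (fun g _ => Finset.mem_coe.2 (Finset.mem_univ (φ g))),
        Finset.card_univ, Nat.card_eq_fintype_card]
    rw [Finset.sum_congr rfl (fun t _ => hrow t), Finset.sum_const, Finset.card_univ,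
      nsmul_eq_mul, ← Nat.card_eq_fintype_card, ← dcard_mul (S.A i), Nat.cast_mul]
    have := (dcard_pos (S.A i)).ne'
    rw [show Nat.card (commutator (S.A i)) = dcard (S.A i) from rfl]
    field_simp
  -- the constants
  have hcex : ∀ k l, ∃ c : ℤ, k ≠ l → ∀ i, ∀ a : S.A l, a ∉ commutator (S.A l) →
      av l ((fam k).θ i) a = (c : ℂ) := by
    intro k l
    by_cases hkl : k = l
    · exact ⟨0, fun h => absurd hkl h⟩
    obtain ⟨c, hc⟩ := (fam l).const _ ((fam k).θ_irr (zero k)) (fun j => hdist k l hkl _ _)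
    refine ⟨c, fun _ i a ha => ?_⟩
    refine Eq.trans ?_ (hc a ha)
    simp only [av, avg]
    congr 1
    refine Finset.sum_congr rfl fun t _ => ?_
    exact (fam k).θ_eq_off i (zero k) _ (fun h hh => absurd
      (S.uniq l k _ (a * (t : S.A l)).2 (hne1 l a ha t) h hh).symm hkl)
  choose c hc using hcex
  -- notation
  let s : ι → ℝ := fun k => (fam k).s
  let m : ι → ℝ := fun k => nIndex (S.A k)
  let w : ι → ℝ := fun k => Nat.card (S.A k)
  let w1 : ι → ℝ := fun k => aindex (S.A k)
  let v : ι → ℝ := fun k => dcard (S.A k)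
  let ε : ι → ℝ := fun k => (fam k).ε
  let e : ι → ℝ := fun k => (fam k).e
  let g : ℝ := Nat.card G
  have hsR : ∀ k, (2 : ℝ) ≤ s k := fun k => by simp only [s]; exact_mod_cast hs2 k
  have hmR : ∀ k, (3 : ℝ) ≤ m k := by
    intro k
    have h1 := S.one_lt k
    have h2 : Odd (nIndex (S.A k)) := hodd.of_dvd_nat
      ((Dvd.intro_left (Nat.card (S.A k)) (card_normalizer (S.A k)).symm).trans
        (Subgroup.card_subgroup_dvd_card _))
    have h3 : 3 ≤ nIndex (S.A k) := by obtain ⟨z, hz⟩ := h2; omega
    simp only [m]; exact_mod_cast h3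
  have hsm : ∀ k, s k * m k + 1 = w1 k := fun k => by
    simp only [s, m, w1]; exact_mod_cast (fam k).s_mul
  have hvw : ∀ k, v k * w1 k = w k := fun k => by
    simp only [v, w1, w]; exact_mod_cast dcard_mul (S.A k)
  have hv1 : ∀ k, (1 : ℝ) ≤ v k := fun k => by simp only [v]; exact_mod_cast dcard_pos (S.A k)
  have hw10 : ∀ k, (0 : ℝ) < w1 k := fun k => by simp only [w1]; exact_mod_cast aindex_pos (S.A k)
  have hw0 : ∀ k, (0 : ℝ) < w k := fun k => by simp only [w]; exact_mod_cast Nat.card_pos
  have hεε : ∀ k, ((fam k).ε : ℂ) * (fam k).ε = 1 := fun k => by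
    rcases (fam k).ε_eq with h | h <;> simp [h]
  have hquad : ∀ i, 0 ≤ s i * e i ^ 2 - 2 * ε i * e i := by
    intro i
    have h1 : (0 : ℝ) ≤ e i ^ 2 - ε i * e i := by
      have : 0 ≤ (fam i).e ^ 2 - (fam i).ε * (fam i).e := by
        rcases (fam i).ε_eq with h | h <;> rw [h]
        · rcases le_or_gt (fam i).e 0 with he | he <;> nlinarith
        · rcases le_or_gt 0 (fam i).e with he | he <;> nlinarith
      simp only [e, ε]; exact_mod_cast this
    nlinarith [mul_self_nonneg (e i), hsR i]
  have hnorm : ∀ (k : ι) (j : Fin (fam k).s) (a : S.A k), a ∉ commutator (S.A k) →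
      av k ((fam k).θ j) a * conj (av k ((fam k).θ j) a) = (fam k).M j a * conj ((fam k).M j a)
        + ((fam k).ε * (fam k).e : ℂ) * ((fam k).M j a + conj ((fam k).M j a))
        + ((fam k).e : ℂ) ^ 2 := by
    intro k j a ha
    simp only [av]
    rw [(fam k).θ_val j a ha, map_add, map_mul, map_intCast, map_intCast]
    linear_combination ((fam k).M j a * conj ((fam k).M j a)) * hεε k
  -- (a) parity
  have ha : ∀ i k, i ≠ k → c i k ≠ 0 ∨ c k i ≠ 0 := by
    intro i k hik
    by_contra hcon
    push Not at hcon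
    have hz : ∀ χ : IrrCharacter G, ∃ z : ℤ,
        av i χ (pick i) * conj (av k χ (pick k)) = (z : ℂ) := by
      intro χ
      by_cases h1 : ∃ j, (χ : G → ℂ) = (fam i).θ j
      · obtain ⟨j, hj⟩ := h1
        refine ⟨0, ?_⟩
        rw [hj, hc i k hik j _ (hpick k), hcon.1]
        simp
      by_cases h2 : ∃ j, (χ : G → ℂ) = (fam k).θ j
      · obtain ⟨j, hj⟩ := h2
        refine ⟨0, ?_⟩
        rw [hj, hc k i (Ne.symm hik) j _ (hpick i), hcon.2]
        simp
      push Not at h1 h2
      obtain ⟨a, ha'⟩ := (fam i).const _ χ.2 h1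
      obtain ⟨b, hb'⟩ := (fam k).const _ χ.2 h2
      refine ⟨a * b, ?_⟩
      simp only [av]
      rw [ha' _ (hpick i), hb' _ (hpick k), map_intCast]
      push_cast
      ring
    choose z hz using hz
    have htriv : z (trivIrr G) = 1 := by
      have h := hz (trivIrr G)
      have e1 : ∀ l, av l (trivIrr G : IrrCharacter G) (pick l) = 1 := fun l =>
        avg_of_invariant (fun _ : S.A l => (1 : ℂ)) (fun _ _ => rfl) _
      rw [e1, e1, map_one, one_mul] at h
      exact_mod_cast h.symm
    have hsum : ∑ χ : IrrCharacter G, z χ = 0 := by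
      have h := hcol_off i k hik
      rw [Finset.sum_congr rfl (fun χ _ => hz χ), ← Int.cast_sum] at h
      exact_mod_cast h
    rw [← Finset.add_sum_erase _ _ (Finset.mem_univ (trivIrr G)), htriv] at hsum
    let τ : IrrCharacter G → IrrCharacter G := fun χ =>
      ⟨fun x => conj ((χ : G → ℂ) x), isIrrCharacter_conj χ.2⟩
    have hττ : ∀ χ, τ (τ χ) = χ := fun χ => Subtype.ext (funext fun x => by simp [τ])
    have hzτ : ∀ χ, z (τ χ) = z χ := by
      intro χ
      have h := hz (τ χ)
      have e1 : ∀ l, av l (τ χ : IrrCharacter G) (pick l) = conj (av l χ (pick l)) := fun l =>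
        avg_conj (fun b : S.A l => (χ : G → ℂ) b) (pick l)
      rw [e1, e1, ← map_mul, hz χ, map_intCast] at h
      exact_mod_cast h.symm
    have heven : Even (∑ χ ∈ Finset.univ.erase (trivIrr G), z χ) := by
      rw [even_iff_two_dvd]
      refine (ZMod.intCast_zmod_eq_zero_iff_dvd _ 2).1 ?_
      rw [Int.cast_sum]
      refine Finset.sum_involution (fun χ _ => τ χ) (fun χ _ => ?_) (fun χ hχ _ h => ?_)
        (fun χ hχ => ?_) (fun χ _ => hττ χ)
      · rw [hzτ, ← two_mul, show (2 : ZMod 2) = 0 from by decide, zero_mul]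
      · refine Finset.ne_of_mem_erase hχ (Subtype.ext ?_)
        exact eq_one_of_real_of_odd hodd χ.2 fun x =>
          congrArg (fun ψ : IrrCharacter G => (ψ : G → ℂ) x) h
      · refine Finset.mem_erase.2 ⟨fun h => Finset.ne_of_mem_erase hχ ?_, Finset.mem_univ _⟩
        rw [← hττ χ, h]
        exact Subtype.ext (funext fun x => by simp [τ, trivIrr_apply])
    obtain ⟨y, hy⟩ := heven
    omega
  -- (b) column norms
  have hb : ∀ i, ∑ k ∈ Finset.univ.erase i, s k * (c k i : ℝ) ^ 2 ≤ m i - 1 := by
    intro i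
    let F : IrrCharacter G → ℝ := fun χ => Complex.normSq (av i χ (pick i))
    have htot : ∑ χ, F χ = w1 i := by
      apply Complex.ofReal_injective
      simp only [F, w1]
      push_cast [← Complex.mul_conj]
      exact hcol_diag i
    have hle : ∑ o, F (Ψ o) ≤ ∑ χ, F χ := by
      rw [show ∑ o, F (Ψ o) = ∑ χ ∈ Finset.univ.map ⟨Ψ, hΨinj⟩, F χ from
        (Finset.sum_map Finset.univ ⟨Ψ, hΨinj⟩ F).symm]
      exact Finset.sum_le_sum_of_subset_of_nonneg (Finset.subset_univ _)
        fun χ _ _ => Complex.normSq_nonneg _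
    have hk : ∀ k ∈ Finset.univ.erase i, ∑ j, F (Ψ (some ⟨k, j⟩)) = s k * (c k i : ℝ) ^ 2 := by
      intro k hk
      have e1 : ∀ j, F (Ψ (some ⟨k, j⟩)) = (c k i : ℝ) ^ 2 := fun j => by
        show Complex.normSq (av i ((fam k).θ j) (pick i)) = _
        rw [hc k i (Finset.ne_of_mem_erase hk) j _ (hpick i), Complex.normSq_intCast, sq]
      simp only [e1, Finset.sum_const, Finset.card_univ, Fintype.card_fin, nsmul_eq_mul, s]
    have hi : ∑ j, F (Ψ (some ⟨i, j⟩)) = w1 i - m i - 2 * ε i * e i + s i * e i ^ 2 := by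
      apply Complex.ofReal_injective
      simp only [F, w1, m, s, ε, e]
      push_cast [← Complex.mul_conj]
      show ∑ j, av i ((fam i).θ j) (pick i) * conj (av i ((fam i).θ j) (pick i)) = _
      rw [Finset.sum_congr rfl (fun j _ => hnorm i j _ (hpick i)), Finset.sum_add_distrib,
        Finset.sum_add_distrib, (fam i).sum_norm_M _ (hpick i), ← Finset.mul_sum,
        Finset.sum_add_distrib, ← map_sum, (fam i).sum_M _ (hpick i), Finset.sum_const,
        Finset.card_univ, Fintype.card_fin, nsmul_eq_mul, map_neg, map_one]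
      ring
    have htriv : F (Ψ none) = 1 := by
      show Complex.normSq (av i (trivIrr G : IrrCharacter G) (pick i)) = 1
      rw [show av i (trivIrr G : IrrCharacter G) (pick i) = 1 from
        avg_of_invariant (fun _ : S.A i => (1 : ℂ)) (fun _ _ => rfl) _, map_one]
    rw [htot, Fintype.sum_option, Fintype.sum_sigma, htriv,
      ← Finset.add_sum_erase _ _ (Finset.mem_univ i), hi, Finset.sum_congr rfl hk] at hle
    have := hquad i
    linarith
  -- (c) row norms
  have hrow : ∀ i, ∑ k ∈ Finset.univ.erase i, s k / w1 k * (c i k : ℝ) ^ 2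
      < (m i + 2 * ε i * e i - s i * e i ^ 2) / w1 i := by
    intro i
    set θ := (fam i).θ (zero i) with hθ
    obtain ⟨dd, hd0, hdd⟩ := exists_degree_of_isIrr ((fam i).θ_irr (zero i))
    have hG : (Nat.card G : ℂ) ≠ 0 := Nat.cast_ne_zero.2 Nat.card_pos.ne'
    let F : G → ℝ := fun x => Complex.normSq (θ x)
    have htot : ∑ x, F x = g := by
      apply Complex.ofReal_injective
      simp only [F, g]
      push_cast [← Complex.mul_conj]
      have h := classInner_self_of_isIrr ((fam i).θ_irr (zero i))
      rw [classInner, inv_mul_eq_iff_eq_mul₀ hG, mul_one] at h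
      exact h
    have hsplit : F 1 + ∑ k, g / (w k * m k) * ∑ a ∈ punct (S.A k), F a = g := by
      conv_rhs => rw [← htot, ← Finset.add_sum_erase _ _ (Finset.mem_univ (1 : G))]
      congr 1
      apply Complex.ofReal_injective
      have h := sum_ne_one S (fun x => ((F x : ℝ) : ℂ)) (fun a b => by
        simp only [F, IsIrrCharacter.isClassFunction ((fam i).θ_irr (zero i)) a b, θ])
      push_cast
      simp only [g, w, m]
      push_cast
      exact h.symm
    have hA : ∀ k, ∑ a ∈ outer (S.A k), Complex.normSq (av k θ a)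
        ≤ ∑ a ∈ punct (S.A k), F a := by
      intro k
      refine (sum_normSq_avg_le (fun b : S.A k => θ b)).trans ?_
      have h1 : ∑ a : S.A k, F a = F 1 + ∑ a ∈ punct (S.A k), F a := by
        apply Complex.ofReal_injective
        push_cast
        exact sum_coe_eq (S.A k) (fun x => ((F x : ℝ) : ℂ))
      have h2 : ∑ a ∈ outer (S.A k), F a + F ((1 : S.A k) : G) ≤ ∑ a : S.A k, F a := by
        rw [← Finset.sum_erase_add _ _ (Finset.mem_univ (1 : S.A k))]
        refine add_le_add (Finset.sum_le_sum_of_subset_of_nonneg (fun a ha => ?_)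
          fun a _ _ => Complex.normSq_nonneg _) le_rfl
        refine Finset.mem_erase.2 ⟨?_, Finset.mem_univ _⟩
        rintro rfl
        exact mem_outer.1 ha (one_mem _)
      rw [h1, OneMemClass.coe_one] at h2
      show ∑ a ∈ outer (S.A k), F a ≤ _
      linarith
    have hk : ∀ k ∈ Finset.univ.erase i, g * (s k / w1 k * (c i k : ℝ) ^ 2)
        ≤ g / (w k * m k) * ∑ a ∈ punct (S.A k), F a := by
      intro k hk
      have hcard : ((outer (S.A k)).card : ℝ) + v k = w k := by
        apply Complex.ofReal_injective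
        simp only [v, w]
        push_cast
        exact card_outer
      have h1 : ∑ a ∈ outer (S.A k), Complex.normSq (av k θ a) = (w k - v k) * (c i k : ℝ) ^ 2 := by
        rw [Finset.sum_congr rfl (fun a ha => by
          rw [hθ, hc i k (Ne.symm (Finset.ne_of_mem_erase hk)) (zero i) a (mem_outer.1 ha),
            Complex.normSq_intCast, ← sq]), Finset.sum_const, nsmul_eq_mul, ← hcard]
        ring
      refine le_trans (le_of_eq ?_) (mul_le_mul_of_nonneg_left (hA k)
        (div_nonneg (by simp only [g]; positivity)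
          (mul_nonneg (hw0 k).le (by linarith [hmR k]))))
      rw [h1, ← hvw, ← hsm]
      have h2 := hmR k
      have h3 := hv1 k
      have h4 := hsR k
      have h5 : s k * m k + 1 ≠ 0 := by nlinarith
      field_simp
      ring
    have hi : g * (1 - (m i + 2 * ε i * e i - s i * e i ^ 2) / w1 i)
        ≤ g / (w i * m i) * ∑ a ∈ punct (S.A i), F a := by
      have hcard : ((outer (S.A i)).card : ℝ) + v i = w i := by
        apply Complex.ofReal_injective
        simp only [v, w]
        push_cast
        exact card_outer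
      have h1 : ∑ a ∈ outer (S.A i), Complex.normSq (av i θ a)
          = w i * m i - v i * m i ^ 2 - 2 * ε i * e i * (v i * m i)
            + (w i - v i) * e i ^ 2 := by
        rw [← hcard]
        apply Complex.ofReal_injective
        simp only [m, ε, e, v]
        push_cast [← Complex.mul_conj]
        rw [hθ, Finset.sum_congr rfl (fun a ha => hnorm i (zero i) a (mem_outer.1 ha)),
          Finset.sum_add_distrib, Finset.sum_add_distrib, (fam i).total_norm_M, ← Finset.mul_sum,
          Finset.sum_add_distrib, ← map_sum, (fam i).total_M, Finset.sum_const, nsmul_eq_mul,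
          map_neg, map_mul, Complex.conj_natCast, Complex.conj_natCast]
        linear_combination -(nIndex (S.A i) : ℂ) * (card_outer (A := S.A i))
      refine le_trans (le_of_eq ?_) (mul_le_mul_of_nonneg_left (hA i)
        (div_nonneg (by simp only [g]; positivity)
          (mul_nonneg (hw0 i).le (by linarith [hmR i]))))
      rw [h1, ← hvw, ← hsm]
      have h2 := hmR i
      have h3 := hv1 i
      have h4 := hsR i
      have h5 : s i * m i + 1 ≠ 0 := by nlinarith
      field_simp
      ring
    have hd : 0 < F 1 := by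
      simp only [F, θ]
      rw [hdd, Complex.normSq_natCast]
      have : (0 : ℝ) < dd := by exact_mod_cast hd0
      positivity
    have hg0 : 0 < g := by simp only [g]; exact_mod_cast Nat.card_pos
    rw [← Finset.add_sum_erase _ _ (Finset.mem_univ i)] at hsplit
    have h := Finset.sum_le_sum hk
    rw [← Finset.mul_sum] at h
    have hlt : g * (∑ k ∈ Finset.univ.erase i, s k / w1 k * (c i k : ℝ) ^ 2
        + (1 - (m i + 2 * ε i * e i - s i * e i ^ 2) / w1 i)) < g * 1 := by
      rw [mul_add, mul_one]
      linarith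
    have := lt_of_mul_lt_mul_left hlt hg0.le
    linarith
  -- total weight
  let f : ι → ℝ := fun k => (w k - 1) / (w k * m k)
  have hF : ∑ k, f k = 1 - 1 / g := by
    have h := sum_ne_one S (fun _ => (1 : ℂ)) (fun _ _ => rfl)
    simp only [Finset.sum_const, nsmul_eq_mul, mul_one] at h
    have hc1 : ((Finset.univ.erase (1 : G)).card : ℂ) + 1 = (Nat.card G : ℂ) := by
      rw [← Nat.cast_one, ← Nat.cast_add, Finset.card_erase_add_one (Finset.mem_univ _),
        Finset.card_univ, Nat.card_eq_fintype_card]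
    rw [Finset.sum_congr rfl (g := fun k => ((g * f k : ℝ) : ℂ)) (fun k _ => ?_),
      ← Complex.ofReal_sum, ← Finset.mul_sum] at h
    · rw [h] at hc1
      have h' : g * ∑ k, f k + 1 = g := by
        simp only [g] at hc1 ⊢; exact_mod_cast hc1
      have hg0 : 0 < g := by simp only [g]; exact_mod_cast Nat.card_pos
      field_simp
      linarith
    · have hp := card_punct S k
      simp only [g, f, w, m]
      push_cast
      rw [← hp]
      ring
  have hf_lt : ∀ k, f k < 1 / m k := fun k => by
    simp only [f]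
    have h1 := hw0 k
    have h2 := hmR k
    rw [div_lt_div_iff₀ (mul_pos h1 (by linarith)) (by linarith)]
    nlinarith
  have hf_le : ∀ k (μ : ℝ), μ ≤ m k → 3 ≤ μ → f k ≤ (2 * μ + 1) / (2 * μ) * (s k / w1 k) := by
    intro k μ hμ h3
    refine (hf_lt k).le.trans ?_
    have h2 := hmR k
    have hs := hsR k
    have hμm : 0 ≤ m k - μ := by linarith
    rw [div_mul_div_comm, div_le_div_iff₀ (by linarith)
      (mul_pos (by linarith : (0 : ℝ) < 2 * μ) (hw10 k)), ← hsm]
    nlinarith [mul_nonneg (by linarith : (0 : ℝ) ≤ s k - 2) (by linarith : (0 : ℝ) ≤ m k)]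
  have hg1 : 1 < g := by simp only [g]; exact_mod_cast Finite.one_lt_card
  -- choice of the class
  obtain ⟨x, hx⟩ := exists_ne (1 : G)
  obtain ⟨k₁, -, -⟩ := S.cover x hx
  have : Nonempty ι := ⟨k₁⟩
  obtain ⟨i₀, -, hmin⟩ := Finset.exists_min_image Finset.univ m Finset.univ_nonempty
  obtain ⟨i, hi, hmax⟩ := Finset.exists_max_image (Finset.univ.filter fun k => m k = m i₀) s
    ⟨i₀, by simp⟩
  rw [Finset.mem_filter] at hi
  have hmini : ∀ k, m i ≤ m k := fun k => hi.2 ▸ hmin k (Finset.mem_univ k)
  let T := (Finset.univ.erase i).filter fun k => c k i ≠ 0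
  let U := (Finset.univ.erase i).filter fun k => ¬ c k i ≠ 0
  have hsplit : ∑ k, f k = f i + (∑ k ∈ T, f k + ∑ k ∈ U, f k) := by
    rw [Finset.sum_filter_add_sum_filter_not, Finset.add_sum_erase _ _ (Finset.mem_univ i)]
  rw [hF] at hsplit
  have hU : ∀ μ : ℝ, 3 ≤ μ → (∀ k ∈ U, μ ≤ m k) →
      ∑ k ∈ U, f k < (2 * μ + 1) / (2 * μ) * (m i / w1 i) := by
    intro μ h3 hμ
    have hK : 0 < (2 * μ + 1) / (2 * μ) := div_pos (by linarith) (by linarith)
    calc ∑ k ∈ U, f k ≤ ∑ k ∈ U, (2 * μ + 1) / (2 * μ) * (s k / w1 k * (c i k : ℝ) ^ 2) := by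
          refine Finset.sum_le_sum fun k hk => (hf_le k μ (hμ k hk) h3).trans ?_
          obtain ⟨hki, hck⟩ := Finset.mem_filter.1 hk
          have hne := (ha i k (Ne.symm (Finset.ne_of_mem_erase hki))).resolve_right hck
          refine mul_le_mul_of_nonneg_left (le_mul_of_one_le_right
            (div_nonneg (by linarith [hsR k]) (hw10 k).le) ?_) hK.le
          have : (1 : ℤ) ≤ (c i k) ^ 2 := by
            have := sq_pos_of_ne_zero hne
            omega
          exact_mod_cast this
      _ = (2 * μ + 1) / (2 * μ) * ∑ k ∈ U, s k / w1 k * (c i k : ℝ) ^ 2 := by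
          rw [Finset.mul_sum]
      _ < _ := by
          refine mul_lt_mul_of_pos_left (lt_of_le_of_lt (Finset.sum_le_sum_of_subset_of_nonneg
            (Finset.filter_subset _ _) fun k _ _ => mul_nonneg
              (div_nonneg (by linarith [hsR k]) (hw10 k).le) (sq_nonneg _)) ?_) hK
          refine lt_of_lt_of_le (hrow i) ?_
          have := hquad i
          have := hw10 i
          gcongr
          linarith
  have hT : 2 * (T.card : ℝ) ≤ m i - 1 := by
    have h1 : ∑ k ∈ T, (2 : ℝ) ≤ ∑ k ∈ T, s k * (c k i : ℝ) ^ 2 := by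
      refine Finset.sum_le_sum fun k hk => ?_
      have h2 := hsR k
      have h3 : (1 : ℝ) ≤ (c k i : ℝ) ^ 2 := by
        have : (1 : ℤ) ≤ (c k i) ^ 2 := by
          have := sq_pos_of_ne_zero (Finset.mem_filter.1 hk).2
          omega
        exact_mod_cast this
      nlinarith
    have h4 : ∑ k ∈ T, s k * (c k i : ℝ) ^ 2 ≤ ∑ k ∈ Finset.univ.erase i, s k * (c k i : ℝ) ^ 2 :=
      Finset.sum_le_sum_of_subset_of_nonneg (Finset.filter_subset _ _)
        fun k _ _ => mul_nonneg (by linarith [hsR k]) (sq_nonneg _)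
    simp only [Finset.sum_const, nsmul_eq_mul] at h1
    have := hb i
    linarith
  have hTsum : ∀ μ : ℝ, 3 ≤ μ → (∀ k ∈ T, μ ≤ m k) → ∑ k ∈ T, f k ≤ (m i - 1) / (2 * μ) := by
    intro μ h3 hμ
    have h1 : ∑ k ∈ T, f k ≤ (T.card : ℝ) * (1 / μ) := by
      rw [← nsmul_eq_mul]
      exact Finset.sum_le_card_nsmul _ _ _ fun k hk =>
        (hf_lt k).le.trans (one_div_le_one_div_of_le (by linarith) (hμ k hk))
    refine h1.trans ?_
    rw [mul_one_div, div_le_div_iff₀ (by linarith) (by linarith)]
    nlinarith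
  have hfi := hf_lt i
  have hm := hmR i
  have hw1i := hsm i
  have hv := hv1 i
  have hge : w i * m i ≤ g := by
    simp only [w, m, g]
    exact_mod_cast (card_normalizer (S.A i)).symm.le.trans (Subgroup.card_le_card_group _)
  by_cases hs4 : 4 ≤ s i
  · have h1 := hU 3 le_rfl (fun k _ => hmR k)
    have h2 := hTsum (m i) hm (fun k _ => hmini k)
    have h3 : f i + (m i - 1) / (2 * m i) ≤ 2 / 3 := by
      refine le_trans (add_le_add hfi.le le_rfl) ?_
      rw [div_add_div _ _ (by linarith) (by linarith),
        div_le_div_iff₀ (by nlinarith) (by norm_num)]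
      nlinarith
    have h4 : m i / w1 i ≤ 1 / 4 := by
      rw [div_le_div_iff₀ (hw10 i) (by norm_num)]
      nlinarith
    have h5 : 39 ≤ g := by
      have : 13 ≤ w i := by
        have h2 := mul_le_mul_of_nonneg_right hv (hw10 i).le
        have h3 := mul_le_mul_of_nonneg_right hs4 (by linarith : (0 : ℝ) ≤ m i)
        rw [hvw i] at h2
        linarith
      nlinarith
    have h6 : 1 / g ≤ 1 / 39 := one_div_le_one_div_of_le (by norm_num) h5
    rw [show (2 * (3 : ℝ) + 1) / (2 * 3) = 7 / 6 by norm_num] at h1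
    linarith
  -- `s i = 2`
  have hsi : (fam i).s = 2 := by
    obtain ⟨j, hj⟩ := (fam i).s_even
    have h4 : ¬ (4 : ℕ) ≤ (fam i).s := fun h => hs4 (by simp only [s]; exact_mod_cast h)
    have := hs2 i
    omega
  have hs2R : s i = 2 := by simp only [s]; exact_mod_cast hsi
  have hm5 : ∀ k, k ≠ i → m i + 2 ≤ m k := by
    intro k hki
    have hne : nIndex (S.A k) ≠ nIndex (S.A i) := by
      intro he
      have hmk : m k = m i₀ := by rw [← hi.2]; simp only [m, he]
      have hsk := hmax k (Finset.mem_filter.2 ⟨Finset.mem_univ _, hmk⟩)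
      have hsk' : (fam k).s = 2 := by
        have h' : (fam k).s ≤ (fam i).s := by simp only [s] at hsk; exact_mod_cast hsk
        have := hs2 k
        omega
      have hw : aindex (S.A k) = aindex (S.A i) := by
        rw [← (fam k).s_mul, ← (fam i).s_mul, hsk', hsi, he]
      have h1 : aindex (S.A i) = 1 := Nat.eq_one_of_dvd_coprimes (S.coprime k i hki)
        (hw ▸ (commutator (S.A k)).index_dvd_card) (commutator (S.A i)).index_dvd_card
      have := (fam i).s_mul
      rw [h1, hsi] at this
      have := nIndex_pos (S.A i)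
      omega
    have hle : nIndex (S.A i) ≤ nIndex (S.A k) := by
      have := hmini k; simp only [m] at this; exact_mod_cast this
    have hod : ∀ l, Odd (nIndex (S.A l)) := fun l => hodd.of_dvd_nat
      ((Dvd.intro_left (Nat.card (S.A l)) (card_normalizer (S.A l)).symm).trans
        (Subgroup.card_subgroup_dvd_card _))
    obtain ⟨a, ha'⟩ := hod i
    obtain ⟨b, hb'⟩ := hod k
    have : nIndex (S.A i) + 2 ≤ nIndex (S.A k) := by omega
    simp only [m]; exact_mod_cast this
  have hTi : ∀ k ∈ T, m i + 2 ≤ m k := fun k hk =>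
    hm5 k (Finset.ne_of_mem_erase (Finset.mem_filter.1 hk).1)
  have hUi : ∀ k ∈ U, m i + 2 ≤ m k := fun k hk =>
    hm5 k (Finset.ne_of_mem_erase (Finset.mem_filter.1 hk).1)
  rw [hs2R] at hw1i
  by_cases hone : ∀ k, k = i
  · have hT0 : T = ∅ := Finset.eq_empty_of_forall_notMem fun k hk =>
      Finset.ne_of_mem_erase (Finset.mem_filter.1 hk).1 (hone k)
    have hU0 : U = ∅ := Finset.eq_empty_of_forall_notMem fun k hk =>
      Finset.ne_of_mem_erase (Finset.mem_filter.1 hk).1 (hone k)
    rw [hT0, hU0, Finset.sum_empty, add_zero, add_zero] at hsplit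
    have h1 : 1 / m i ≤ 1 / 3 := one_div_le_one_div_of_le (by norm_num) hm
    have h2 : 1 / g ≤ 1 / 2 := one_div_le_one_div_of_le (by norm_num) (by
      nlinarith [hvw i, mul_le_mul_of_nonneg_right hv (hw10 i).le, hm])
    linarith
  push Not at hone
  obtain ⟨k, hki⟩ := hone
  have hgk : (2 * m i + 1) * (2 * m i + 5) ≤ g := by
    have h1 : w i * w k ≤ g := by
      simp only [w, g]
      exact_mod_cast Nat.le_of_dvd Nat.card_pos
        ((S.coprime i k (Ne.symm hki)).mul_dvd_of_dvd_of_dvd
          (S.A i).card_subgroup_dvd_card (S.A k).card_subgroup_dvd_card)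
    refine le_trans (mul_le_mul ?_ ?_ (by linarith) (hw0 i).le) h1
    · rw [← hvw i]; nlinarith [mul_le_mul_of_nonneg_right hv (hw10 i).le]
    · have h2 := mul_le_mul_of_nonneg_right (hv1 k) (hw10 k).le
      have h3 := mul_le_mul_of_nonneg_right (hsR k) (by linarith [hmR k] : (0 : ℝ) ≤ m k)
      rw [hvw k, ← hsm k] at h2
      linarith [hm5 k hki]
  have h1 := hU (m i + 2) (by linarith) hUi
  have h2 := hTsum (m i + 2) (by linarith) hTi
  rw [← hw1i] at h1
  by_cases hm3 : nIndex (S.A i) = 3
  · -- then `A` is abelian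
    have hm3R : m i = 3 := by simp only [m, hm3]; norm_num
    have hv' : v i = 1 := by
      have h7 : aindex (S.A i) = 7 := by rw [← (fam i).s_mul, hsi, hm3]
      have hd : (commutator (S.A i)).index.Prime := by
        show (aindex (S.A i)).Prime
        rw [h7]; decide
      have hbot := commutator_eq_bot_of_prime (S.hC i) (S.nilp i) hd
      simp only [v, dcard, hbot, Subgroup.card_bot, Nat.cast_one]
    have hfi' : f i = 2 / 7 := by
      simp only [f]
      rw [← hvw i, hv', one_mul, ← hsm i, hs2R, hm3R]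
      norm_num
    rw [hm3R] at h1 h2 hgk
    have h6 : 1 / g ≤ 1 / 77 := one_div_le_one_div_of_le (by norm_num) (by linarith)
    norm_num at h1 h2
    linarith
  · have hm5' : 5 ≤ m i := by
      have h3 : 3 ≤ nIndex (S.A i) := by simp only [m] at hm; exact_mod_cast hm
      have hod : Odd (nIndex (S.A i)) := hodd.of_dvd_nat
        ((Dvd.intro_left (Nat.card (S.A i)) (card_normalizer (S.A i)).symm).trans
          (Subgroup.card_subgroup_dvd_card _))
      obtain ⟨a, ha'⟩ := hod
      have : 5 ≤ nIndex (S.A i) := by omega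
      simp only [m]; exact_mod_cast this
    have h6 : 1 / g ≤ 1 / ((2 * m i + 1) * (2 * m i + 5)) :=
      one_div_le_one_div_of_le (by positivity) hgk
    have h7 : 1 / m i + (m i - 1) / (2 * (m i + 2))
        + (2 * (m i + 2) + 1) / (2 * (m i + 2)) * (m i / (2 * m i + 1))
        + 1 / ((2 * m i + 1) * (2 * m i + 5)) ≤ 1 := by
      generalize m i = μ at hm5' ⊢
      obtain ⟨u, hu, rfl⟩ : ∃ u : ℝ, 0 ≤ u ∧ μ = 5 + u := ⟨μ - 5, by linarith, by ring⟩
      field_simp
      ring_nf
      nlinarith [mul_nonneg hu hu, mul_nonneg hu (mul_nonneg hu hu),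
        mul_nonneg (mul_nonneg hu hu) (mul_nonneg hu hu)]
    linarith

end CfsgLib.Frobenius.CN
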