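import Cfsg.Agent.Lib.Frobenius.CN.Local

/-!
# A CN-group modulo an abelian normal `p`-subgroup is a CN-group
-/

set_option autoImplicit false
set_option linter.unusedSectionVars false

open Cfsg

namespace CfsgLib.Frobenius.CN

universe u

variable {G : Type u} [Group G] [Finite G]

/-- A group in which elements of coprime prime power orders commute is nilpotent. -/
theorem isNilpotent_of_primary_commute
    (h : ∀ (p q : ℕ) (a b : G), p.Prime → q.Prime → p ≠ q → (∃ k : ℕ, orderOf a = p ^ k) →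
      (∃ k : ℕ, orderOf b = q ^ k) → a * b = b * a) : Group.IsNilpotent G := by
  refine ((Group.isNilpotent_of_finite_tfae (G := G)).out 3 0).1 ?_
  intro p hp P
  rw [← Subgroup.normalizer_eq_top_iff, eq_top_iff]
  have hPN : (P : Subgroup G) ≤ Subgroup.normalizer ((P : Subgroup G) : Set G) :=
    Subgroup.le_normalizer
  have hq : ∀ q : ℕ, q.Prime → q ≠ p → ∀ x : G, (∃ k : ℕ, orderOf x = q ^ k) →
      x ∈ Subgroup.normalizer ((P : Subgroup G) : Set G) := by
    intro q hq hqp x hx
    have hc : ∀ w ∈ (P : Subgroup G), x * w * x⁻¹ = w := fun w hw => by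
      obtain ⟨k, hk⟩ := IsPGroup.iff_orderOf.1 P.2 ⟨w, hw⟩
      rw [Subgroup.orderOf_mk] at hk
      rw [h q p x w hq hp.out hqp hx ⟨k, hk⟩, mul_inv_cancel_right]
    refine Subgroup.mem_normalizer_iff.2 fun w => ⟨fun hw => by rw [hc w hw]; exact hw,
      fun hw => ?_⟩
    have := hc _ hw
    have e : w = x * w * x⁻¹ := by
      calc w = x⁻¹ * (x * w * x⁻¹) * x := by group
        _ = x⁻¹ * (x * (x * w * x⁻¹) * x⁻¹) * x := by rw [this]
        _ = x * w * x⁻¹ := by group
    rw [e]; exact hw
  set N := Subgroup.normalizer ((P : Subgroup G) : Set G) with hN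
  have hidx : N.index = 1 := by
    refine Nat.eq_one_iff_not_exists_prime_dvd.2 fun r hr hd => ?_
    have := Fact.mk hr
    by_cases hrp : r = p
    · subst hrp
      exact P.not_dvd_index (hd.trans (Subgroup.index_dvd_of_le hPN))
    · obtain ⟨R⟩ : Nonempty (Sylow r G) := inferInstance
      refine R.not_dvd_index (hd.trans (Subgroup.index_dvd_of_le fun x hx => ?_))
      obtain ⟨k, hk⟩ := IsPGroup.iff_orderOf.1 R.2 ⟨x, hx⟩
      rw [Subgroup.orderOf_mk] at hk
      exact hq r hr hrp x ⟨k, hk⟩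
  rw [Subgroup.index_eq_one.1 hidx]

theorem commute_in_centralizer' (hCN : IsCNGroup G) {u a b : G} (hu : u ≠ 1) (ha : a * u = u * a)
    (hb : b * u = u * b) (h : (orderOf a).Coprime (orderOf b)) : a * b = b * a :=
  commute_of_coprime (hCN u hu) (Subgroup.mem_centralizer_singleton_iff.2 ha)
    (Subgroup.mem_centralizer_singleton_iff.2 hb) h

/-- An element of prime power order normalising a finite set `X` of cardinality prime to it fixes
a point of `X`. -/
theorem exists_fixed {r : ℕ} [Fact r.Prime] {y : G} (hy : ∃ k : ℕ, orderOf y = r ^ k)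
    (X : Set G) (hX : ∀ x ∈ X, y * x * y⁻¹ ∈ X) (hcard : ¬ r ∣ Nat.card X) :
    ∃ x ∈ X, y * x = x * y := by
  classical
  have : Fintype G := Fintype.ofFinite _
  let σ : Equiv.Perm X := Equiv.ofBijective (fun x => ⟨y * x * y⁻¹, hX x x.2⟩)
    ((Finite.injective_iff_bijective).1 fun a b e => Subtype.ext (by
      simpa using congrArg Subtype.val e))
  have hσ : ∀ (j : ℕ) (x : X), ((σ ^ j) x).1 = y ^ j * x * (y ^ j)⁻¹ := by
    intro j
    induction j with
    | zero => intro x; simp
    | succ j ih =>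
      intro x
      rw [pow_succ', Equiv.Perm.mul_apply]
      show y * ((σ ^ j) x).1 * y⁻¹ = _
      rw [ih, pow_succ']
      group
  obtain ⟨k, hk⟩ := hy
  have hσk : σ ^ (r ^ k) = 1 := Equiv.ext fun x => Subtype.ext (by
    rw [hσ, ← hk, pow_orderOf_eq_one]; simp)
  obtain ⟨x, hx⟩ := Equiv.Perm.exists_fixed_point_of_prime (σ := σ)
    (by rwa [← Nat.card_eq_fintype_card]) hσk
  exact ⟨x, x.2, mul_inv_eq_iff_eq_mul.1 (congrArg Subtype.val hx)⟩

variable (hCN : IsCNGroup G) (M : Subgroup G) [hMn : M.Normal]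
  (hMc : ∀ a ∈ M, ∀ b ∈ M, a * b = b * a) {p : ℕ} [hp : Fact p.Prime] (hMp : IsPGroup p M)
  (hM : M ≠ ⊥)
include hCN hMc hMp hM

/-- A `p`-element has a non-trivial fixed point on `M`. -/
theorem exists_fixed_ne_one {d : G} (hd : ∃ k : ℕ, orderOf d = p ^ k) :
    ∃ z ∈ M, z ≠ 1 ∧ d * z = z * d := by
  classical
  have hX : ∀ x ∈ ((M : Set G) \ {1}), d * x * d⁻¹ ∈ ((M : Set G) \ {1}) := fun x hx =>
    ⟨hMn.conj_mem x hx.1 d, fun e => hx.2 (conj_eq_one_iff.1 e)⟩
  have hnd : ¬ p ∣ Nat.card ((M : Set G) \ {1} : Set G) := by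
    obtain ⟨k, hk⟩ := hMp.exists_card_eq
    have hk0 : k ≠ 0 := by
      rintro rfl
      exact hM (Subgroup.card_eq_one.1 (by simpa using hk))
    have hsub : ({1} : Set G) ⊆ (M : Set G) := Set.singleton_subset_iff.2 M.one_mem
    have h1 : Nat.card ((M : Set G) \ {1} : Set G) + 1 = p ^ k := by
      rw [Nat.card_coe_set_eq, ← Set.ncard_singleton (1 : G),
        Set.ncard_sdiff_add_ncard_of_subset hsub (Set.toFinite _), ← hk, ← Nat.card_coe_set_eq]
      rfl
    intro h
    have h2 : p ∣ p ^ k := dvd_pow_self p hk0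
    rw [← h1] at h2
    exact hp.out.ne_one (Nat.dvd_one.1 ((Nat.dvd_add_right h).1 h2))
  obtain ⟨z, hz, hdz⟩ := exists_fixed hd _ hX hnd
  exact ⟨z, hz.1, hz.2, hdz⟩

/-- An element of order prime to `p` commuting with a non-trivial element of `M` centralises `M`. -/
theorem centralizes {y z : G} (hy : (orderOf y).Coprime p) (hz : z ∈ M) (hz1 : z ≠ 1)
    (hyz : y * z = z * y) {m : G} (hm : m ∈ M) : y * m = m * y := by
  refine commute_of_coprime (hCN z hz1) (Subgroup.mem_centralizer_singleton_iff.2 hyz)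
    (Subgroup.mem_centralizer_singleton_iff.2 (hMc m hm z hz)) ?_
  obtain ⟨k, hk⟩ := IsPGroup.iff_orderOf.1 hMp ⟨m, hm⟩
  rw [Subgroup.orderOf_mk] at hk
  rw [hk]
  exact hy.pow_right k

/-- `G / M` is a CN-group. -/
theorem isCNGroup_quotient : IsCNGroup (G ⧸ M) := by
  classical
  intro g hg
  obtain ⟨q, u, hq, hu, hug⟩ := exists_prime_pow_element hg
  have hle : Subgroup.centralizer ({g} : Set (G ⧸ M)) ≤ Subgroup.centralizer ({u} : Set (G ⧸ M)) := by
    intro c hc
    obtain ⟨i, rfl⟩ := hug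
    exact Subgroup.mem_centralizer_singleton_iff.2
      ((Commute.zpow_right (Subgroup.mem_centralizer_singleton_iff.1 hc) i))
  suffices h : Group.IsNilpotent (Subgroup.centralizer ({u} : Set (G ⧸ M))) from
    CfsgLib.Cores.isNilpotent_of_le h hle
  have := Fact.mk hq
  set π := QuotientGroup.mk' M with hπ
  have hu1 : u ≠ 1 := fun e => hq.ne_one (by rw [← hu, e, orderOf_one])
  obtain ⟨x₀, hx₀⟩ := QuotientGroup.mk'_surjective M u
  obtain ⟨k₀, hk₀⟩ := hMp.exists_card_eq
  by_cases hqp : q = p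
  · subst hqp
    set H := (Subgroup.centralizer ({u} : Set (G ⧸ M))).comap π with hH
    have hcent : ∀ (r : ℕ), r.Prime → r ≠ q → ∀ y ∈ H, (∃ k : ℕ, orderOf y = r ^ k) →
        ∀ m ∈ M, y * m = m * y := by
      intro r hr hrq y hy hyr m hm
      have := Fact.mk hr
      have hX : ∀ d ∈ {d : G | π d = u}, y * d * y⁻¹ ∈ {d : G | π d = u} := by
        intro d hd
        show π (y * d * y⁻¹) = u
        rw [map_mul, map_mul, map_inv, show π d = u from hd,
          Subgroup.mem_centralizer_singleton_iff.1 hy, mul_inv_cancel_right]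
      have hcardX : ¬ r ∣ Nat.card {d : G | π d = u} := by
        have e : Nat.card {d : G | π d = u} = Nat.card M := Nat.card_congr
          { toFun := fun d => ⟨x₀⁻¹ * d.1, QuotientGroup.eq.1 (hx₀.trans d.2.symm)⟩
            invFun := fun n => ⟨x₀ * n.1, by
              show π (x₀ * n.1) = u
              rw [map_mul, hx₀, show π n.1 = 1 from (QuotientGroup.eq_one_iff _).2 n.2, mul_one]⟩
            left_inv := fun d => by apply Subtype.ext; simp
            right_inv := fun n => by apply Subtype.ext; simp }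
        rw [e, hk₀]
        exact fun h => hrq ((Nat.prime_dvd_prime_iff_eq hr hp.out).1 (hr.dvd_of_dvd_pow h))
      obtain ⟨d, hd, hyd⟩ := exists_fixed hyr _ hX hcardX
      have hdu : π d = u := hd
      have hd1 : d ≠ 1 := fun e => hu1 (by rw [← hdu, e, map_one])
      have hdp : ∃ k : ℕ, orderOf d = q ^ k := by
        have hdq : d ^ q ∈ M := by
          rw [← QuotientGroup.eq_one_iff, QuotientGroup.mk_pow]
          show π d ^ q = 1
          rw [hdu, ← hu, pow_orderOf_eq_one]
        have h1 : d ^ (q * q ^ k₀) = 1 := by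
          rw [pow_mul, ← hk₀]
          exact congrArg Subtype.val (pow_card_eq_one' (x := (⟨d ^ q, hdq⟩ : M)))
        rw [← pow_succ'] at h1
        obtain ⟨j, -, hj⟩ := (Nat.dvd_prime_pow hp.out).1 (orderOf_dvd_of_pow_eq_one h1)
        exact ⟨j, hj⟩
      obtain ⟨z, hz, hz1, hdz⟩ := exists_fixed_ne_one hCN M hMc hMp hM hdp
      have hycop : (orderOf y).Coprime q := by
        obtain ⟨k, hk⟩ := hyr
        rw [hk]
        exact Nat.Coprime.pow_left k ((Nat.coprime_primes hr hp.out).2 hrq)
      have hyz : y * z = z * y := by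
        refine commute_in_centralizer' hCN hd1 hyd hdz.symm ?_
        obtain ⟨k, hk⟩ := IsPGroup.iff_orderOf.1 hMp ⟨z, hz⟩
        rw [Subgroup.orderOf_mk] at hk
        rw [hk]
        exact hycop.pow_right k
      exact centralizes hCN M hMc hMp hM hycop hz hz1 hyz hm
    have hHn : Group.IsNilpotent H := by
      refine isNilpotent_of_primary_commute fun r s a b hr hs hne har hbs => Subtype.ext ?_
      rw [← Subgroup.orderOf_coe] at har hbs
      have hcop : (orderOf (a : G)).Coprime (orderOf (b : G)) := by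
        obtain ⟨i, hi⟩ := har
        obtain ⟨j, hj⟩ := hbs
        rw [hi, hj]
        exact coprime_prime_pow hr hs hne i j
      obtain ⟨z, hz, hz1, haz, hbz⟩ : ∃ z ∈ M, z ≠ 1 ∧ (a : G) * z = z * (a : G) ∧
          (b : G) * z = z * (b : G) := by
        by_cases hrq : r = q
        · subst hrq
          obtain ⟨z, hz, hz1, haz⟩ := exists_fixed_ne_one hCN M hMc hMp hM har
          exact ⟨z, hz, hz1, haz, hcent s hs (Ne.symm hne) b b.2 hbs z hz⟩
        by_cases hsq : s = q
        · subst hsq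
          obtain ⟨z, hz, hz1, hbz⟩ := exists_fixed_ne_one hCN M hMc hMp hM hbs
          exact ⟨z, hz, hz1, hcent r hr hne a a.2 har z hz, hbz⟩
        obtain ⟨z, hz, hz1⟩ := (Subgroup.bot_or_exists_ne_one M).resolve_left hM
        exact ⟨z, hz, hz1, hcent r hr hrq a a.2 har z hz, hcent s hs hsq b b.2 hbs z hz⟩
      exact commute_in_centralizer' hCN hz1 haz hbz hcop
    let f : H →* Subgroup.centralizer ({u} : Set (G ⧸ M)) :=
      (π.comp H.subtype).codRestrict _ fun x => x.2
    refine Group.nilpotent_of_surjective f fun c => ?_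
    obtain ⟨x, hx⟩ := QuotientGroup.mk'_surjective M c.1
    exact ⟨⟨x, show π x ∈ _ by rw [hx]; exact c.2⟩, Subtype.ext hx⟩
  · -- a lift of order `q`
    set x := x₀ ^ (p ^ k₀) with hx
    have hcop : q.Coprime (p ^ k₀) := Nat.Coprime.pow_right k₀ ((Nat.coprime_primes hq hp.out).2 hqp)
    have hx₀q : x₀ ^ q ∈ M := by
      rw [← QuotientGroup.eq_one_iff, QuotientGroup.mk_pow]
      show π x₀ ^ q = 1
      rw [hx₀, ← hu, pow_orderOf_eq_one]
    have hxq : x ^ q = 1 := by
      rw [hx, ← pow_mul, mul_comm, pow_mul, ← hk₀]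
      exact congrArg Subtype.val (pow_card_eq_one' (x := (⟨x₀ ^ q, hx₀q⟩ : M)))
    set u' := π x with hu'
    have hu'eq : u' = u ^ (p ^ k₀) := by rw [hu', hx, map_pow, hx₀]
    have hxM : x ∉ M := by
      intro h
      have h1 : π x = 1 := (QuotientGroup.eq_one_iff x).2 h
      rw [← hu', hu'eq] at h1
      have := orderOf_dvd_of_pow_eq_one h1
      rw [hu] at this
      exact hqp ((Nat.prime_dvd_prime_iff_eq hq hp.out).1 (hq.dvd_of_dvd_pow this))
    have hx1 : x ≠ 1 := fun e => hxM (e ▸ M.one_mem)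
    have hxo : orderOf x = q := orderOf_eq_prime hxq hx1
    have hsurj : ∀ y : G, π y ∈ Subgroup.centralizer ({u} : Set (G ⧸ M)) →
        ∃ c : G, c * x = x * c ∧ π c = π y := by
      intro y hy
      have hyu : π y * π x = π x * π y := by
        rw [← hu', hu'eq]
        exact ((show Commute (π y) u from Subgroup.mem_centralizer_singleton_iff.1 hy).pow_right _).eq
      by_cases hfix : ∃ m ∈ M, m ≠ 1 ∧ x * m = m * x
      · obtain ⟨z, hz, hz1, hxz⟩ := hfix
        have hcentM : ∀ m ∈ M, x * m = m * x := fun m hm =>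
          centralizes hCN M hMc hMp hM (by rw [hxo]; exact (Nat.coprime_primes hq hp.out).2 hqp)
            hz hz1 hxz hm
        have hmem : x⁻¹ * (y * x * y⁻¹) ∈ M := by
          refine QuotientGroup.eq.1 ?_
          show π x = π (y * x * y⁻¹)
          rw [map_mul, map_mul, map_inv, hyu, mul_inv_cancel_right]
        have hpow : (x * (x⁻¹ * (y * x * y⁻¹))) ^ q = 1 := by
          rw [mul_inv_cancel_left, conj_pow, hxq]; group
        rw [(show Commute x _ from hcentM _ hmem).mul_pow, hxq, one_mul] at hpow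
        have h1 : x⁻¹ * (y * x * y⁻¹) = 1 := by
          have hd1 := orderOf_dvd_of_pow_eq_one hpow
          obtain ⟨j, hj⟩ := IsPGroup.iff_orderOf.1 hMp ⟨_, hmem⟩
          rw [Subgroup.orderOf_mk] at hj
          rw [← orderOf_eq_one_iff]
          exact Nat.eq_one_of_dvd_coprimes
            (Nat.Coprime.pow_right j ((Nat.coprime_primes hq hp.out).2 hqp)) hd1 hj.dvd
        refine ⟨y, ?_, rfl⟩
        calc y * x = x * (x⁻¹ * (y * x * y⁻¹)) * y := by group
          _ = x * y := by rw [h1, mul_one]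
      · push Not at hfix
        let φ : M → M := fun m => ⟨x⁻¹ * m * x * (m : G)⁻¹,
          M.mul_mem (by simpa using hMn.conj_mem m m.2 x⁻¹) (M.inv_mem m.2)⟩
        have hinj : Function.Injective φ := by
          intro a b e
          have e' : x⁻¹ * (a : G) * x * (a : G)⁻¹ = x⁻¹ * (b : G) * x * (b : G)⁻¹ :=
            congrArg Subtype.val e
          by_contra hab
          refine hfix _ (M.mul_mem (M.inv_mem b.2) a.2)
            (fun h => hab (Subtype.ext (inv_mul_eq_one.1 h).symm)) ?_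
          have e2 : x⁻¹ * ((b : G)⁻¹ * a) * x = (b : G)⁻¹ * a := by
            calc x⁻¹ * ((b : G)⁻¹ * a) * x
                = (x⁻¹ * (b : G) * x)⁻¹ * (x⁻¹ * (a : G) * x * (a : G)⁻¹) * a := by group
              _ = (b : G)⁻¹ * a := by rw [e']; group
          calc x * ((b : G)⁻¹ * a) = x * (x⁻¹ * ((b : G)⁻¹ * a) * x) := by rw [e2]
            _ = (b : G)⁻¹ * a * x := by group
        have hmem : x⁻¹ * (y * x * y⁻¹) ∈ M := by
          refine QuotientGroup.eq.1 ?_
          show π x = π (y * x * y⁻¹)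
          rw [map_mul, map_mul, map_inv, hyu, mul_inv_cancel_right]
        obtain ⟨m, hm⟩ := Finite.surjective_of_injective hinj ⟨_, hmem⟩
        have e : x⁻¹ * (m : G) * x * (m : G)⁻¹ = x⁻¹ * (y * x * y⁻¹) := congrArg Subtype.val hm
        refine ⟨(m : G)⁻¹ * y, ?_, ?_⟩
        · calc (m : G)⁻¹ * y * x = (m : G)⁻¹ * (x * (x⁻¹ * (y * x * y⁻¹))) * y := by group
            _ = (m : G)⁻¹ * (x * (x⁻¹ * (m : G) * x * (m : G)⁻¹)) * y := by rw [e]
            _ = x * ((m : G)⁻¹ * y) := by group
        · rw [map_mul, map_inv, show π (m : G) = 1 from (QuotientGroup.eq_one_iff _).2 m.2,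
            inv_one, one_mul]
    have hux : ∀ c : G, c * x = x * c → π c ∈ Subgroup.centralizer ({u} : Set (G ⧸ M)) := by
      intro c hc
      refine Subgroup.mem_centralizer_singleton_iff.2 ?_
      have hgen : u ∈ Subgroup.zpowers u' := by
        rw [hu'eq, mem_zpowers_pow_iff, hu]
        exact hcop.symm.gcd_eq_one
      obtain ⟨i, hi⟩ := hgen
      rw [← hi]
      have : Commute (π c) u' := by
        show π c * π x = π x * π c
        rw [← map_mul, hc, map_mul]
      exact (this.zpow_right i).eq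
    let f : Subgroup.centralizer ({x} : Set G) →* Subgroup.centralizer ({u} : Set (G ⧸ M)) :=
      (π.comp (Subgroup.centralizer ({x} : Set G)).subtype).codRestrict _ fun c =>
        hux c (Subgroup.mem_centralizer_singleton_iff.1 c.2)
    have := hCN x hx1
    refine Group.nilpotent_of_surjective f fun c => ?_
    obtain ⟨y, hy⟩ := QuotientGroup.mk'_surjective M c.1
    obtain ⟨c', hc', hc''⟩ := hsurj y (by rw [hy]; exact c.2)
    exact ⟨⟨c', Subgroup.mem_centralizer_singleton_iff.2 hc'⟩, Subtype.ext (hc''.trans hy)⟩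

end CfsgLib.Frobenius.CN
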